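import Cfsg.Agent.Symp.Basis

/-!
# The standard symplectic space and Mathlib's symplectic group

`form l F` is the bilinear form with matrix `J`; `spEquiv` identifies `Matrix.symplecticGroup l F` with its isometry
group; every non-degenerate alternating space is isometric to a standard one.
-/

set_option autoImplicit false

namespace CL.Symp

open Module LinearMap Matrix

section Congr

variable {F V W : Type*} [Field F] [AddCommGroup V] [Module F V] [AddCommGroup W] [Module F W]

/-- An isometry between two spaces identifies their isometry groups. -/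
def isomCongr {B : LinearMap.BilinForm F V} {B' : LinearMap.BilinForm F W} (e : V ≃ₗ[F] W)
    (he : ∀ u v, B' (e u) (e v) = B u v) : isom B ≃* isom B' where
  toFun g := ⟨e.symm.trans (g.1.trans e), fun u v => by
    simp only [LinearEquiv.trans_apply]
    rw [he, g.2, ← he]; simp⟩
  invFun g := ⟨e.trans (g.1.trans e.symm), fun u v => by
    simp only [LinearEquiv.trans_apply]
    rw [← he, ← he u v, ← g.2 (e u)]; simp⟩
  left_inv g := by ext x; simp
  right_inv g := by ext x; simp
  map_mul' g h := by ext x; simp [LinearEquiv.mul_apply]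

@[simp] theorem isomCongr_apply {B : LinearMap.BilinForm F V} {B' : LinearMap.BilinForm F W}
    (e : V ≃ₗ[F] W) (he : ∀ u v, B' (e u) (e v) = B u v) (g : isom B) (w : W) :
    (isomCongr e he g : W ≃ₗ[F] W) w = e ((g : V ≃ₗ[F] V) (e.symm w)) := rfl

@[simp] theorem isomCongr_symm_apply {B : LinearMap.BilinForm F V} {B' : LinearMap.BilinForm F W}
    (e : V ≃ₗ[F] W) (he : ∀ u v, B' (e u) (e v) = B u v) (g : isom B') (v : V) :
    ((isomCongr e he).symm g : V ≃ₗ[F] V) v = e.symm ((g : W ≃ₗ[F] W) (e v)) := rfl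

end Congr

variable (l : Type*) [Fintype l] [DecidableEq l] (F : Type*) [Field F]

/-- The standard alternating form `u ⬝ J v` on `l ⊕ l → F`. -/
noncomputable def form : LinearMap.BilinForm F (l ⊕ l → F) := Matrix.toBilin' (Matrix.J l F)

variable {l F}

theorem form_apply (u v : l ⊕ l → F) : form l F u v = u ⬝ᵥ (Matrix.J l F *ᵥ v) :=
  Matrix.toBilin'_apply' _ _ _

theorem sympForm_eq (m : ℕ) (u v : Fin m ⊕ Fin m → F) :
    Cfsg.sympForm m F u v = form (Fin m) F u v := (form_apply u v).symm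

theorem J_mulVec_inl (v : l ⊕ l → F) (i : l) :
    (Matrix.J l F *ᵥ v) (Sum.inl i) = - v (Sum.inr i) := by
  simp [Matrix.J, Matrix.fromBlocks_mulVec, Matrix.neg_mulVec]

theorem J_mulVec_inr (v : l ⊕ l → F) (i : l) :
    (Matrix.J l F *ᵥ v) (Sum.inr i) = v (Sum.inl i) := by
  simp [Matrix.J, Matrix.fromBlocks_mulVec]

theorem form_eq_sum (u v : l ⊕ l → F) :
    form l F u v = ∑ i, (u (Sum.inr i) * v (Sum.inl i) - u (Sum.inl i) * v (Sum.inr i)) := by
  rw [form_apply, dotProduct, Fintype.sum_sum_type, Finset.sum_sub_distrib]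
  simp only [J_mulVec_inl, J_mulVec_inr, mul_neg, Finset.sum_neg_distrib]
  ring

theorem form_isAlt : (form l F).IsAlt := by
  intro v
  rw [form_eq_sum]
  simp [mul_comm]

theorem form_single_inl (i : l) (v : l ⊕ l → F) :
    form l F (Pi.single (Sum.inl i) 1) v = - v (Sum.inr i) := by
  rw [form_apply, single_dotProduct, one_mul, J_mulVec_inl]

theorem form_single_inr (i : l) (v : l ⊕ l → F) :
    form l F (Pi.single (Sum.inr i) 1) v = v (Sum.inl i) := by
  rw [form_apply, single_dotProduct, one_mul, J_mulVec_inr]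

theorem form_single_inl' (i : l) (v : l ⊕ l → F) :
    form l F v (Pi.single (Sum.inl i) 1) = v (Sum.inr i) := by
  rw [alt_swap form_isAlt, form_single_inl, neg_neg]

theorem form_single_inr' (i : l) (v : l ⊕ l → F) :
    form l F v (Pi.single (Sum.inr i) 1) = - v (Sum.inl i) := by
  rw [alt_swap form_isAlt, form_single_inr]

theorem form_nondegenerate : (form l F).Nondegenerate := by
  constructor
  · intro v hv
    ext (i | i)
    · simpa [form_single_inr'] using hv (Pi.single (Sum.inr i) 1)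
    · simpa [form_single_inl'] using hv (Pi.single (Sum.inl i) 1)
  · intro v hv
    ext (i | i)
    · simpa [form_single_inr] using hv (Pi.single (Sum.inr i) 1)
    · simpa [form_single_inl] using hv (Pi.single (Sum.inl i) 1)

/-- The standard hyperbolic family of the standard form. -/
theorem isHyp_std : IsHyp (form l F) (fun i => Pi.single (Sum.inr i) 1)
    (fun i => Pi.single (Sum.inl i) 1) where
  ef i j := by simp [form_single_inr, Pi.single_apply]
  ee i j := by simp [form_single_inr]
  ff i j := by simp [form_single_inl]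

theorem form_mulVec (A : Matrix (l ⊕ l) (l ⊕ l) F) (u v : l ⊕ l → F) :
    form l F (A *ᵥ u) (A *ᵥ v) = u ⬝ᵥ ((Aᵀ * Matrix.J l F * A) *ᵥ v) := by
  rw [form_apply, ← Matrix.mulVec_mulVec, ← Matrix.mulVec_mulVec, Matrix.dotProduct_mulVec u Aᵀ,
    Matrix.vecMul_transpose]

theorem mem_sp_iff {A : Matrix (l ⊕ l) (l ⊕ l) F} :
    A ∈ Matrix.symplecticGroup l F ↔ ∀ u v, form l F (A *ᵥ u) (A *ᵥ v) = form l F u v := by
  rw [SymplecticGroup.mem_iff']
  constructor
  · intro h u v
    rw [form_mulVec, h, form_apply]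
  · intro h
    apply Matrix.toBilin'.injective
    refine LinearMap.ext₂ fun u v => ?_
    rw [Matrix.toBilin'_apply', ← form_mulVec, h]
    rfl

theorem sp_form (A : Matrix.symplecticGroup l F) (u v : l ⊕ l → F) :
    form l F (A.1 *ᵥ u) (A.1 *ᵥ v) = form l F u v := mem_sp_iff.1 A.2 u v

theorem sp_inv_mulVec_mulVec (A : Matrix.symplecticGroup l F) (v : l ⊕ l → F) :
    (A⁻¹).1 *ᵥ (A.1 *ᵥ v) = v := by
  rw [Matrix.mulVec_mulVec, ← Submonoid.coe_mul, inv_mul_cancel]
  simp

theorem sp_mulVec_inv_mulVec (A : Matrix.symplecticGroup l F) (v : l ⊕ l → F) :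
    A.1 *ᵥ ((A⁻¹).1 *ᵥ v) = v := by
  rw [Matrix.mulVec_mulVec, ← Submonoid.coe_mul, mul_inv_cancel]
  simp

variable (l F) in
/-- Mathlib's symplectic group is the isometry group of the standard form. -/
noncomputable def spEquiv : Matrix.symplecticGroup l F ≃* isom (form l F) where
  toFun A := ⟨{ Matrix.mulVecLin A.1 with
      invFun := fun v => (A⁻¹).1 *ᵥ v
      left_inv := fun v => sp_inv_mulVec_mulVec A v
      right_inv := fun v => sp_mulVec_inv_mulVec A v }, fun u v => sp_form A u v⟩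
  invFun g := ⟨LinearMap.toMatrix' (g.1 : (l ⊕ l → F) →ₗ[F] (l ⊕ l → F)),
    mem_sp_iff.2 fun u v => by simpa using g.2 u v⟩
  left_inv A := by
    apply Subtype.ext
    change LinearMap.toMatrix' (Matrix.toLin' A.1) = A.1
    simp
  right_inv g := by
    apply Subtype.ext
    apply LinearEquiv.ext
    intro v
    exact LinearMap.toMatrix'_mulVec _ _
  map_mul' A B := by
    apply Subtype.ext
    apply LinearEquiv.ext
    intro v
    exact (Matrix.mulVec_mulVec _ _ _).symm

@[simp] theorem spEquiv_apply (A : Matrix.symplecticGroup l F) (v : l ⊕ l → F) :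
    (spEquiv l F A : (l ⊕ l → F) ≃ₗ[F] (l ⊕ l → F)) v = A.1 *ᵥ v := rfl

@[simp] theorem spEquiv_symm_mulVec (g : isom (form l F)) (v : l ⊕ l → F) :
    ((spEquiv l F).symm g).1 *ᵥ v = (g : (l ⊕ l → F) ≃ₗ[F] (l ⊕ l → F)) v :=
  LinearMap.toMatrix'_mulVec _ _

/-- An isometry of the standard form comes from a symplectic matrix. -/
theorem exists_sp_of_mem_isom {g : (l ⊕ l → F) ≃ₗ[F] (l ⊕ l → F)} (hg : g ∈ isom (form l F)) :
    ∃ A : Matrix.symplecticGroup l F, ∀ v, A.1 *ᵥ v = g v :=
  ⟨(spEquiv l F).symm ⟨g, hg⟩, fun v => spEquiv_symm_mulVec _ v⟩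

theorem sp_ext {A B : Matrix.symplecticGroup l F} (h : ∀ v, A.1 *ᵥ v = B.1 *ᵥ v) : A = B := by
  apply (spEquiv l F).injective
  apply Subtype.ext
  exact LinearEquiv.ext h

/-- Witt's lemma for independent families, for symplectic matrices. -/
theorem sp_witt_family {ι : Type*} {x y : ι → (l ⊕ l → F)} (hx : LinearIndependent F x)
    (hy : LinearIndependent F y) (h : ∀ i j, form l F (y i) (y j) = form l F (x i) (x j)) :
    ∃ A : Matrix.symplecticGroup l F, ∀ i, A.1 *ᵥ x i = y i := by
  obtain ⟨g, hg, e⟩ := witt_family form_nondegenerate form_isAlt hx hy h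
  obtain ⟨A, hA⟩ := exists_sp_of_mem_isom hg
  exact ⟨A, fun i => by rw [hA, e]⟩

section Std

variable {V : Type*} [AddCommGroup V] [Module F V]

/-- A symplectic basis gives an isometry with the standard space. -/
theorem exists_isometry_of_basis {B : LinearMap.BilinForm F V} (hA : B.IsAlt)
    (b : Basis (l ⊕ l) F V) (h : IsHyp B (fun i => b (Sum.inl i)) (fun i => b (Sum.inr i))) :
    ∃ e : V ≃ₗ[F] (l ⊕ l → F), (∀ u v, form l F (e u) (e v) = B u v) ∧
      (∀ i, e (b (Sum.inl i)) = Pi.single (Sum.inr i) 1) ∧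
      (∀ i, e (b (Sum.inr i)) = Pi.single (Sum.inl i) 1) := by
  let e : V ≃ₗ[F] (l ⊕ l → F) := b.equiv (Pi.basisFun F (l ⊕ l)) (Equiv.sumComm l l)
  have h1 : ∀ i, e (b (Sum.inl i)) = Pi.single (Sum.inr i) 1 := fun i => by simp [e]
  have h2 : ∀ i, e (b (Sum.inr i)) = Pi.single (Sum.inl i) 1 := fun i => by simp [e]
  refine ⟨e, ?_, h1, h2⟩
  have : (form l F).compl₁₂ (e : V →ₗ[F] _) (e : V →ₗ[F] _) = B := by
    apply b.ext; intro i; apply b.ext; intro j
    simp only [LinearMap.compl₁₂_apply, LinearEquiv.coe_coe]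
    rcases i with i | i <;> rcases j with j | j <;> simp only [h1, h2]
    · rw [isHyp_std.ee, h.ee]
    · rw [isHyp_std.ef, h.ef]
    · rw [isHyp_std.fe form_isAlt, h.fe hA]
    · rw [isHyp_std.ff, h.ff]
  intro u v
  exact congr($this u v)

variable (l) in
/-- A non-degenerate alternating space of dimension `2 * card l` is isometric to the standard one. -/
theorem exists_isometry_std [FiniteDimensional F V] {B : LinearMap.BilinForm F V}
    (hB : B.Nondegenerate) (hA : B.IsAlt) (hV : finrank F V = 2 * Fintype.card l) :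
    ∃ e : V ≃ₗ[F] (l ⊕ l → F), ∀ u v, form l F (e u) (e v) = B u v := by
  obtain ⟨b, h⟩ := exists_symp_basis' hB hA l hV
  obtain ⟨e, he, -⟩ := exists_isometry_of_basis hA b h
  exact ⟨e, he⟩

variable (l) in
/-- The isometry group of a non-degenerate alternating form is a symplectic group. -/
theorem nonempty_isom_equiv_sp [FiniteDimensional F V] {B : LinearMap.BilinForm F V}
    (hB : B.Nondegenerate) (hA : B.IsAlt) (hV : finrank F V = 2 * Fintype.card l) :
    Nonempty (isom B ≃* Matrix.symplecticGroup l F) := by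
  obtain ⟨e, he⟩ := exists_isometry_std l hB hA hV
  exact ⟨(isomCongr e he).trans (spEquiv l F).symm⟩

end Std

/-! ### Transvection matrices -/

theorem sympTransvection_mulVec (m : ℕ) (v : Fin m ⊕ Fin m → F) (c : F) (x : Fin m ⊕ Fin m → F) :
    Cfsg.sympTransvection m v c *ᵥ x = x + (c * form (Fin m) F x v) • v := by
  rw [Cfsg.sympTransvection, Matrix.add_mulVec, Matrix.one_mulVec, Matrix.smul_mulVec,
    Matrix.vecMulVec_mulVec, form_apply, dotProduct_comm, op_smul_eq_smul, smul_smul]

theorem sympTransvection_mulVec_eq_tv (m : ℕ) (v : Fin m ⊕ Fin m → F) (c : F)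
    (x : Fin m ⊕ Fin m → F) :
    Cfsg.sympTransvection m v c *ᵥ x = tv form_isAlt v c x := by
  rw [sympTransvection_mulVec, tv_apply]

theorem sympTransvection_mem (m : ℕ) (v : Fin m ⊕ Fin m → F) (c : F) :
    Cfsg.sympTransvection m v c ∈ Matrix.symplecticGroup (Fin m) F := by
  rw [mem_sp_iff]
  intro x y
  rw [sympTransvection_mulVec_eq_tv, sympTransvection_mulVec_eq_tv]
  exact tv_mem_isom form_isAlt v c x y

/-- The symplectic transvection as an element of the symplectic group. -/
def spTv (m : ℕ) (v : Fin m ⊕ Fin m → F) (c : F) : Matrix.symplecticGroup (Fin m) F :=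
  ⟨Cfsg.sympTransvection m v c, sympTransvection_mem m v c⟩

theorem spTv_mulVec (m : ℕ) (v : Fin m ⊕ Fin m → F) (c : F) (x : Fin m ⊕ Fin m → F) :
    (spTv m v c).1 *ᵥ x = x + (c * form (Fin m) F x v) • v := sympTransvection_mulVec m v c x

theorem spEquiv_spTv (m : ℕ) (v : Fin m ⊕ Fin m → F) (c : F) :
    spEquiv (Fin m) F (spTv m v c) = ⟨tv form_isAlt v c, tv_mem_isom form_isAlt v c⟩ := by
  apply Subtype.ext
  apply LinearEquiv.ext
  intro x
  exact sympTransvection_mulVec_eq_tv m v c x

theorem spTv_mul (m : ℕ) (v : Fin m ⊕ Fin m → F) (c d : F) :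
    spTv m v c * spTv m v d = spTv m v (c + d) := by
  apply (spEquiv (Fin m) F).injective
  rw [map_mul, spEquiv_spTv, spEquiv_spTv, spEquiv_spTv]
  exact Subtype.ext (tv_mul form_isAlt v c d)

theorem spTv_zero (m : ℕ) (v : Fin m ⊕ Fin m → F) : spTv m v 0 = 1 := by
  apply Subtype.ext
  simp [spTv, Cfsg.sympTransvection]

theorem spTv_smul (m : ℕ) (v : Fin m ⊕ Fin m → F) (a c : F) :
    spTv m (a • v) c = spTv m v (a ^ 2 * c) := by
  apply (spEquiv (Fin m) F).injective
  rw [spEquiv_spTv, spEquiv_spTv]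
  exact Subtype.ext (tv_smul form_isAlt v a c)

theorem conj_spTv (m : ℕ) (A : Matrix.symplecticGroup (Fin m) F) (v : Fin m ⊕ Fin m → F) (c : F) :
    A * spTv m v c * A⁻¹ = spTv m (A.1 *ᵥ v) c := by
  apply (spEquiv (Fin m) F).injective
  rw [map_mul, map_mul, map_inv, spEquiv_spTv, spEquiv_spTv]
  exact Subtype.ext (conj_tv form_isAlt (spEquiv (Fin m) F A).2 v c)

/-- A symplectic matrix inducing a product of transvections along vectors of `U` is a product of the
corresponding transvection matrices. -/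
theorem mem_closure_spTv_of_mem_tvSub (m : ℕ) (U : Submodule F (Fin m ⊕ Fin m → F))
    {g : (Fin m ⊕ Fin m → F) ≃ₗ[F] (Fin m ⊕ Fin m → F)} (hg : g ∈ tvSub form_isAlt U) :
    ∃ A ∈ Subgroup.closure {A : Matrix.symplecticGroup (Fin m) F | ∃ v ∈ U, ∃ c, A = spTv m v c},
      ∀ x, A.1 *ᵥ x = g x := by
  induction hg using Subgroup.closure_induction with
  | mem g hg =>
    obtain ⟨v, hv, c, rfl⟩ := hg
    exact ⟨spTv m v c, Subgroup.subset_closure ⟨v, hv, c, rfl⟩,
      sympTransvection_mulVec_eq_tv m v c⟩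
  | one => exact ⟨1, one_mem _, fun x => by simp⟩
  | mul a b _ _ ha hb =>
    obtain ⟨A, hA, ea⟩ := ha
    obtain ⟨B, hB, eb⟩ := hb
    exact ⟨A * B, mul_mem hA hB, fun x => by
      rw [Submonoid.coe_mul, ← Matrix.mulVec_mulVec, eb, ea, LinearEquiv.mul_apply]⟩
  | inv a _ ha =>
    obtain ⟨A, hA, ea⟩ := ha
    refine ⟨A⁻¹, inv_mem hA, fun x => ?_⟩
    apply a.injective
    rw [← ea, sp_mulVec_inv_mulVec]
    simp [LinearEquiv.coe_inv]

/-- The symplectic group is generated by its transvections. -/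
theorem closure_spTv (m : ℕ) :
    Subgroup.closure {A : Matrix.symplecticGroup (Fin m) F | ∃ v c, A = spTv m v c} = ⊤ := by
  rw [eq_top_iff]
  intro A _
  have := (tvSub_top form_nondegenerate form_isAlt).ge (spEquiv (Fin m) F A).2
  obtain ⟨B, hB, e⟩ := mem_closure_spTv_of_mem_tvSub m ⊤ this
  have : B = A := sp_ext e
  subst this
  simpa using hB

end CL.Symp
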