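import Cfsg.Agent.Symp.Matrix

/-!
# Primitivity of the symplectic group on points
-/

set_option autoImplicit false

namespace CL.Symp

open Module LinearMap Matrix
open scoped LinearAlgebra.Projectivization Pointwise

variable {F V : Type*} [Field F] [AddCommGroup V] [Module F V] [FiniteDimensional F V]

/-- The stabiliser of a vector `a` is transitive on the vectors outside `⟨a⟩` with a given product with `a`. -/
theorem exists_isom_fix {B : LinearMap.BilinForm F V} (hB : B.Nondegenerate) (hA : B.IsAlt)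
    {a x y : V} (hx : x ∉ Submodule.span F {a}) (hy : y ∉ Submodule.span F {a})
    (h : B a x = B a y) : ∃ g ∈ isom B, g a = a ∧ g x = y := by
  obtain ⟨g, hg, e⟩ := step hB hA hx hy (fun s hs => by
    obtain ⟨c, rfl⟩ := Submodule.mem_span_singleton.1 hs
    simp [h])
  exact ⟨g, tvSub_le_isom hA _ hg,
    tvSub_orthogonal_fix hA hg (Submodule.mem_span_singleton_self a), e⟩

/-- The isometry group is transitive on non-zero vectors. -/
theorem exists_isom_of_ne_zero {B : LinearMap.BilinForm F V} (hB : B.Nondegenerate) (hA : B.IsAlt)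
    {x y : V} (hx : x ≠ 0) (hy : y ≠ 0) : ∃ g ∈ isom B, g x = y := by
  obtain ⟨g, hg, -, e⟩ := exists_isom_fix hB hA (a := 0) (x := x) (y := y) (by simpa using hx)
    (by simpa using hy) (by simp)
  exact ⟨g, hg, e⟩

omit [FiniteDimensional F V] in
theorem not_mem_span_of_ne {B : LinearMap.BilinForm F V} (hA : B.IsAlt) {a x : V}
    (h : B a x ≠ 0) : x ∉ Submodule.span F {a} := by
  intro hx
  obtain ⟨c, rfl⟩ := Submodule.mem_span_singleton.1 hx
  simp [hA.self_eq_zero] at h

/-- A group acting linearly and inducing all isometries of a non-degenerate alternating form is primitive on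
the points. -/
theorem isPreprimitive_of_isom {B : LinearMap.BilinForm F V} (hB : B.Nondegenerate) (hA : B.IsAlt)
    (G : Type*) [Group G] [DistribMulAction G V] [SMulCommClass G F V]
    (hG : ∀ g ∈ isom B, ∃ a : G, ∀ v, a • v = g v) : MulAction.IsPreprimitive G (ℙ F V) := by
  have htr : MulAction.IsPretransitive G (ℙ F V) := ⟨fun p q => by
    induction p using Projectivization.ind with | _ x hx =>
    induction q using Projectivization.ind with | _ y hy =>
    obtain ⟨g, hg, e⟩ := exists_isom_of_ne_zero hB hA hx hy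
    obtain ⟨a, ha⟩ := hG g hg
    exact ⟨a, by simp only [Projectivization.smul_mk, ha, e]⟩⟩
  refine { isTrivialBlock_of_isBlock := fun {S} hS => ?_ }
  -- membership of the block, for vectors
  let P : V → Prop := fun v => ∃ hv : v ≠ 0, Projectivization.mk F v hv ∈ S
  have hsmul : ∀ (c : F) (v : V), c ≠ 0 → P v → P (c • v) := by
    rintro c v hc ⟨hv, h⟩
    refine ⟨smul_ne_zero hc hv, ?_⟩
    have : Projectivization.mk F (c • v) (smul_ne_zero hc hv) = Projectivization.mk F v hv :=
      (Projectivization.mk_eq_mk_iff' F _ _ _ _).2 ⟨c, rfl⟩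
    rwa [this]
  have key : ∀ a x y : V, P a → P x → x ∉ Submodule.span F {a} → y ∉ Submodule.span F {a} →
      B a x = B a y → P y := by
    rintro a x y ⟨ha, hPa⟩ ⟨hx0, hPx⟩ hx hy h
    obtain ⟨g, hg, e1, e2⟩ := exists_isom_fix hB hA hx hy h
    obtain ⟨t, ht⟩ := hG g hg
    have hy0 : y ≠ 0 := fun h0 => hy (h0 ▸ Submodule.zero_mem _)
    have h1 : t • Projectivization.mk F a ha ∈ S := by
      simpa only [Projectivization.smul_mk, ht, e1] using hPa
    have h2 : t • S = S := MulAction.isBlock_iff_smul_eq_of_mem.1 hS hPa h1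
    refine ⟨hy0, ?_⟩
    have h3 : t • Projectivization.mk F x hx0 ∈ t • S := Set.smul_mem_smul_set hPx
    rw [h2] at h3
    simpa only [Projectivization.smul_mk, ht, e2] using h3
  have key1 : ∀ a x y : V, P a → P x → B a x ≠ 0 → B a y ≠ 0 → P y := by
    intro a x y ha hx h1 h2
    refine key a ((B a y / B a x) • x) y ha (hsmul _ _ (div_ne_zero h2 h1) hx)
      (not_mem_span_of_ne hA (by simp [h1, h2])) (not_mem_span_of_ne hA h2) (by simp [h1])
  have key2 : ∀ a x : V, P a → P x → B a x ≠ 0 → ∀ y, y ≠ 0 → P y := by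
    intro a x ha hx h y hy
    obtain ⟨d, -, h1, h2⟩ := exists_orthogonal_ne₂ hB hA (S := ⊥) (x := a) (y := y)
      (by simpa using ha.1) (by simpa using hy)
    have hd : P d := key1 a x d ha hx h h1
    refine key1 d a y hd ha ?_ ?_
    · rw [alt_swap hA]; simpa using h1
    · rw [alt_swap hA]; simpa using h2
  rw [MulAction.IsTrivialBlock, or_iff_not_imp_left, Set.not_subsingleton_iff]
  rintro ⟨p, hp, q, hq, hpq⟩
  induction p using Projectivization.ind with | _ a ha =>
  induction q using Projectivization.ind with | _ b hb =>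
  have hab : a ∉ Submodule.span F {b} := by
    intro h
    obtain ⟨c, rfl⟩ := Submodule.mem_span_singleton.1 h
    exact hpq ((Projectivization.mk_eq_mk_iff' F _ _ _ _).2 ⟨c, rfl⟩)
  have hall : ∀ y, y ≠ 0 → P y := by
    by_cases h0 : B a b = 0
    · obtain ⟨d, hd, h1⟩ := exists_orthogonal_ne hB hA hab
      have h2 : B b d = 0 := hd b (Submodule.mem_span_singleton_self b)
      have hPd : P d := by
        refine key b a d ⟨hb, hq⟩ ⟨ha, hp⟩ hab ?_ ?_
        · intro h
          obtain ⟨c, rfl⟩ := Submodule.mem_span_singleton.1 h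
          simp [h0] at h1
        · rw [h2, alt_swap hA, h0, neg_zero]
      exact key2 a d ⟨ha, hp⟩ hPd h1
    · exact key2 a b ⟨ha, hp⟩ ⟨hb, hq⟩ h0
  rw [Set.eq_univ_iff_forall]
  intro p
  induction p using Projectivization.ind with | _ y hy =>
  exact (hall y hy).2

/-- Mathlib's symplectic group is primitive on the points. -/
theorem sp_isPreprimitive (l : Type*) [Fintype l] [DecidableEq l] (F : Type*) [Field F] :
    MulAction.IsPreprimitive (Matrix.symplecticGroup l F) (ℙ F (l ⊕ l → F)) :=
  isPreprimitive_of_isom form_nondegenerate form_isAlt _ fun _ hg => exists_sp_of_mem_isom hg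

/-- The group `Cfsg.spGL` and Mathlib's symplectic group are the same. -/
theorem mem_spGL_iff {m : ℕ} {F : Type*} [Field F]
    {g : Matrix.GeneralLinearGroup (Fin m ⊕ Fin m) F} :
    g ∈ Cfsg.spGL m F ↔ (g : Matrix _ _ F) ∈ Matrix.symplecticGroup (Fin m) F := by
  rw [mem_sp_iff]
  simp only [← sympForm_eq]
  rfl

theorem spGL_isPreprimitive (m : ℕ) (F : Type*) [Field F] :
    MulAction.IsPreprimitive (Cfsg.spGL m F) (ℙ F (Fin m ⊕ Fin m → F)) := by
  refine isPreprimitive_of_isom form_nondegenerate form_isAlt _ fun g hg => ?_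
  obtain ⟨A, hA⟩ := exists_sp_of_mem_isom hg
  let u : Matrix.GeneralLinearGroup (Fin m ⊕ Fin m) F :=
    ⟨A.1, (A⁻¹).1, by rw [← Submonoid.coe_mul, mul_inv_cancel]; rfl,
      by rw [← Submonoid.coe_mul, inv_mul_cancel]; rfl⟩
  exact ⟨⟨u, mem_spGL_iff.2 A.2⟩, hA⟩

end CL.Symp
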