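import Cfsg.Agent.Symp.Prim
import Cfsg.Agent.Orth.Forms
import Cfsg.Agent.Unitary.Std
import Cfsg.Agent.Unitary.Gen
import Cfsg.Prelude.Def_SporadicB

/-!
# Transvections in characteristic two as classes of 3-transpositions
-/

set_option autoImplicit false

namespace CL.ThreeTr

open Module Matrix

variable {F V G : Type*} [Field F] [AddCommGroup V] [Module F V] [Group G]

theorem rank_eq_one_iff {ι : Type*} [Fintype ι] [DecidableEq ι] (M : Matrix ι ι F) :
    (M - 1).rank = 1 ↔ ∃ (v : ι → F) (φ : (ι → F) →ₗ[F] F), v ≠ 0 ∧ φ ≠ 0 ∧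
      ∀ x, M *ᵥ x = x + φ x • v := by
  rw [Matrix.rank]
  constructor
  · intro h
    obtain ⟨⟨v, hv⟩, hv0, h1⟩ := finrank_eq_one_iff'.1 h
    have hv0' : v ≠ 0 := fun e => hv0 (Subtype.ext e)
    obtain ⟨ψ, hψ⟩ := Module.Projective.exists_dual_eq_one F hv0'
    refine ⟨v, ψ ∘ₗ (M - 1).mulVecLin, hv0', fun e => ?_, fun x => ?_⟩
    · obtain ⟨x, hx⟩ := hv
      have := congr($e x)
      simp only [LinearMap.comp_apply, hx, hψ, LinearMap.zero_apply] at this
      exact one_ne_zero this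
    · obtain ⟨c, hc⟩ := h1 ⟨_, x, rfl⟩
      have hc' : c • v = (M - 1).mulVecLin x := congrArg Subtype.val hc
      rw [LinearMap.comp_apply, ← hc', map_smul, hψ, smul_eq_mul, mul_one, hc']
      simp
  · rintro ⟨v, φ, hv, hφ, h⟩
    have : LinearMap.range (M - 1).mulVecLin = Submodule.span F {v} := by
      apply le_antisymm
      · rintro _ ⟨x, rfl⟩
        refine Submodule.mem_span_singleton.2 ⟨φ x, ?_⟩
        simp [h]
      · rw [Submodule.span_singleton_le_iff_mem]
        obtain ⟨x, hx⟩ := LinearMap.surjective_of_ne_zero hφ 1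
        exact ⟨x, by simp [h, hx]⟩
    rw [this, finrank_span_singleton hv]

/-- A criterion for the transvections `x ↦ x + f p x • p`, `p ∈ S`, to be a class of
3-transpositions. -/
theorem isClass (ρ : G →* (V ≃ₗ[F] V)) (hρ : Function.Injective ρ) (h2 : (2 : F) = 0)
    (D : Set G) (f : V → V →ₗ[F] F) (S : Set V)
    (hD : ∀ g, g ∈ D ↔ ∃ p ∈ S, ∀ x, ρ g x = x + f p x • p)
    (h0 : ∀ p ∈ S, f p p = 0) (hne : ∀ p ∈ S, p ≠ 0 ∧ ∃ x, f p x ≠ 0)
    (h1 : ∀ p ∈ S, ∀ p' ∈ S, (f p p' = 0 ∧ f p' p = 0) ∨ f p p' * f p' p = 1)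
    (hf : ∀ g p x, f (ρ g p) (ρ g x) = f p x) (hS : ∀ g, ∀ p ∈ S, ρ g p ∈ S)
    (ht : ∀ p ∈ S, ∀ p' ∈ S, ∃ g, ρ g p = p') (hD0 : D.Nonempty)
    (hgen : Subgroup.closure D = ⊤) : Cfsg.IsThreeTranspositionClass D := by
  have hext : ∀ a b : G, (∀ x, ρ a x = ρ b x) → a = b := fun a b h => hρ (LinearEquiv.ext h)
  have hsq : ∀ d ∈ D, d * d = 1 := fun d hd => by
    obtain ⟨p, hp, e⟩ := (hD d).1 hd
    refine hext _ _ fun x => ?_
    simp only [map_mul, LinearEquiv.mul_apply, e, map_add, map_smul, h0 p hp, map_one,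
      LinearEquiv.coe_one, id_eq]
    linear_combination (norm := module) (h2 * f p x) • p
  have hconj : ∀ (g d : G) (p : V), (∀ x, ρ d x = x + f p x • p) →
      ∀ x, ρ (g * d * g⁻¹) x = x + f (ρ g p) x • ρ g p := fun g d p e x => by
    obtain ⟨x, rfl⟩ := (ρ g).surjective x
    have : ρ g⁻¹ (ρ g x) = x := by rw [← LinearEquiv.mul_apply, ← map_mul]; simp
    simp only [map_mul, LinearEquiv.mul_apply, this, e, map_add, map_smul, hf]
  refine ⟨⟨fun d hd => ?_, fun d hd e he => ?_⟩, ?_, hgen⟩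
  · refine orderOf_eq_prime (by rw [pow_two, hsq d hd]) ?_
    rintro rfl
    obtain ⟨p, hp, e⟩ := (hD 1).1 hd
    obtain ⟨hp0, x, hx⟩ := hne p hp
    have := e x
    simp [hp0, hx] at this
  · obtain ⟨p, hp, ed⟩ := (hD d).1 hd
    obtain ⟨p', hp', ee⟩ := (hD e).1 he
    rcases h1 p hp p' hp' with ⟨a, b⟩ | a
    · left
      have : d * e = e * d := hext _ _ fun x => by
        simp only [map_mul, LinearEquiv.mul_apply, ed, ee, map_add, map_smul, a, b]
        module
      calc (d * e) ^ 2 = d * (e * e) * d := by rw [pow_two]; nth_rw 2 [this]; group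
        _ = 1 := by rw [hsq e he, mul_one, hsq d hd]
    · right
      have : d * e * d = e * d * e := hext _ _ fun x => by
        simp only [map_mul, LinearEquiv.mul_apply, ed, ee, map_add, map_smul, h0 p hp, h0 p' hp',
          smul_eq_mul]
        linear_combination (norm := module) (a * f p x) • p - (a * f p' x) • p' +
          (h2 * f p x) • p - (h2 * f p' x) • p'
      calc (d * e) ^ 3 = (d * e * d) * (e * d * e) := by rw [pow_three]; group
        _ = e * d * (e * e) * d * e := by rw [this]; group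
        _ = 1 := by rw [hsq e he, mul_one, mul_assoc e, hsq d hd, mul_one, hsq e he]
  · obtain ⟨d, hd⟩ := hD0
    refine ⟨d, hd, Set.ext fun e => ?_⟩
    obtain ⟨p, hp, ed⟩ := (hD d).1 hd
    change _ ↔ IsConj d e
    rw [isConj_iff, hD]
    constructor
    · rintro ⟨p', hp', ee⟩
      obtain ⟨g, rfl⟩ := ht p hp p' hp'
      exact ⟨g, hext _ _ fun x => by rw [hconj g d p ed, ee]⟩
    · rintro ⟨g, rfl⟩
      exact ⟨_, hS g p hp, hconj g d p ed⟩

theorem zmod_two_cases (a : ZMod 2) : a = 0 ∨ a = 1 := by revert a; decide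

open CL.Orth in
/-- Orthogonal transvections over the field with two elements. -/
theorem orth {ι : Type} [Fintype ι] [DecidableEq ι] (Q : QuadraticForm (ZMod 2) (ι → ZMod 2))
    (hQ : Q.polarBilin.Nondegenerate) (h5 : 5 ≤ finrank (ZMod 2) (ι → ZMod 2)) :
    Cfsg.IsThreeTranspositionClass {g : ↥(Cfsg.isometryGroup (ZMod 2) ⇑Q) |
      (((g : GL ι (ZMod 2)) : Matrix ι ι (ZMod 2)) - 1).rank = 1} := by
  have h2 : (2 : ZMod 2) = 0 := rfl
  have hrefl : ∀ v, Q v = 1 → ∀ x, (Orth.refl Q v).1 x = x + QuadraticMap.polar Q v x • v := by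
    intro v hv x
    rw [Orth.refl_apply, hv, inv_one, one_mul]
    linear_combination (norm := module) (h2 * QuadraticMap.polar Q v x) • (-v)
  have hD : ∀ g : Cfsg.isometryGroup (ZMod 2) ⇑Q,
      (((g : GL ι (ZMod 2)) : Matrix ι ι (ZMod 2)) - 1).rank = 1 ↔
      ∃ p, Q p = 1 ∧ ∀ x, (Orth.bridge Q g).1 x = x + QuadraticMap.polar Q p x • p := by
    intro g
    rw [rank_eq_one_iff]
    simp only [← Orth.bridge_apply]
    constructor
    · rintro ⟨v, φ, hv, hφ, h⟩
      obtain ⟨x0, hx0⟩ := Orth.exists_polar_ne_zero hQ hv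
      have hx1 := (zmod_two_cases _).resolve_left hx0
      have key : ∀ y, φ y = φ x0 * QuadraticMap.polar Q v y := fun y => by
        have := Orth.O_polar (Orth.bridge Q g) x0 y
        rw [h, h] at this
        qsimp [QuadraticMap.polar_comm Q x0 v, hx1] at this
        linear_combination this - (φ x0 * QuadraticMap.polar Q v y + φ x0 * φ y * Q v) * h2
      have h3 : φ x0 = 1 := (zmod_two_cases _).resolve_left fun e =>
        hφ (LinearMap.ext fun y => by rw [key, e, zero_mul]; rfl)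
      refine ⟨v, ?_, fun x => by rw [h, key, h3, one_mul]⟩
      have := Orth.O_map (Orth.bridge Q g) x0
      rw [h, h3] at this
      qsimp [QuadraticMap.polar_comm Q x0 v, hx1] at this
      linear_combination this - h2
    · rintro ⟨p, hp, h⟩
      have hp0 : p ≠ 0 := by rintro rfl; simp at hp
      obtain ⟨x0, hx0⟩ := Orth.exists_polar_ne_zero hQ hp0
      exact ⟨p, Q.polarBilin p, hp0, fun e => hx0 congr($e x0), h⟩
  refine isClass ((Orth.O Q).subtype.comp (Orth.bridge Q).toMonoidHom)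
    ((Orth.O Q).subtype_injective.comp (Orth.bridge Q).injective) h2 _ (fun p => Q.polarBilin p)
    {p | Q p = 1} hD (fun p _ => ?_) (fun p hp => ?_) (fun p _ p' _ => ?_)
    (fun g p x => Orth.O_polar (Orth.bridge Q g) p x)
    (fun g p hp => (Orth.O_map (Orth.bridge Q g) p).trans hp) (fun p hp p' hp' => ?_) ?_ ?_
  · rw [QuadraticMap.polarBilin_apply_apply, QuadraticMap.polar_self, two_smul, ← two_mul, h2,
      zero_mul]
  · have hp0 : p ≠ 0 := by rintro rfl; simp at hp
    exact ⟨hp0, Orth.exists_polar_ne_zero hQ hp0⟩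
  · simp only [QuadraticMap.polarBilin_apply_apply, QuadraticMap.polar_comm Q p' p]
    rcases zmod_two_cases (QuadraticMap.polar Q p p') with h | h <;> simp [h]
  · obtain ⟨g, hg⟩ := Orth.exists_O_apply_eq hQ (x := p) (y := p') (by rintro rfl; simp at hp)
      (by rintro rfl; simp at hp') (hp.trans hp'.symm)
    obtain ⟨g, rfl⟩ := (Orth.bridge Q).surjective g
    exact ⟨g, hg⟩
  · obtain ⟨v, hv⟩ := Orth.exists_Q_ne_zero hQ (by omega)
    have hv1 := (zmod_two_cases _).resolve_left hv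
    exact ⟨(Orth.bridge Q).symm (Orth.refl Q v), (hD _).2 ⟨v, hv1, by simpa using hrefl v hv1⟩⟩
  · apply Subgroup.map_injective (f := (Orth.bridge Q).toMonoidHom) (Orth.bridge Q).injective
    rw [Subgroup.map_top_of_surjective _ (Orth.bridge Q).surjective]
    refine Orth.eq_top_of_refl_mem hQ (Orth.tame_of_finrank_ne_four hQ (by omega)) _ fun v hv => ?_
    have hv1 := (zmod_two_cases _).resolve_left hv
    exact ⟨(Orth.bridge Q).symm (Orth.refl Q v), Subgroup.subset_closure
      ((hD _).2 ⟨v, hv1, by simpa using hrefl v hv1⟩), by simp⟩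

/-- Symplectic transvections over the field with two elements. -/
theorem symp (n : ℕ) (hn : 1 ≤ n) :
    Cfsg.IsThreeTranspositionClass {g : Matrix.symplecticGroup (Fin n) (ZMod 2) |
      ((g : Matrix (Fin n ⊕ Fin n) (Fin n ⊕ Fin n) (ZMod 2)) - 1).rank = 1} := by
  have h2 : (2 : ZMod 2) = 0 := rfl
  let B := Symp.form (Fin n) (ZMod 2)
  have hA : B.IsAlt := Symp.form_isAlt
  have hB : B.Nondegenerate := Symp.form_nondegenerate
  have hex : ∀ v, v ≠ 0 → ∃ x, B x v = 1 := fun v hv => by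
    by_contra hc
    exact hv (hB.2 v fun x => (zmod_two_cases _).resolve_right fun e => hc ⟨x, e⟩)
  have hD : ∀ g : Matrix.symplecticGroup (Fin n) (ZMod 2),
      ((g : Matrix (Fin n ⊕ Fin n) (Fin n ⊕ Fin n) (ZMod 2)) - 1).rank = 1 ↔
      ∃ p, p ≠ 0 ∧ ∀ x, g.1 *ᵥ x = x + B x p • p := by
    intro g
    rw [rank_eq_one_iff]
    constructor
    · rintro ⟨v, φ, hv, hφ, h⟩
      obtain ⟨x0, hx1⟩ := hex v hv
      have key : ∀ y, φ y = φ x0 * B y v := fun y => by
        have : B _ _ = B _ _ := Symp.sp_form g x0 y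
        rw [h, h] at this
        simp only [map_add, map_smul, LinearMap.add_apply, LinearMap.smul_apply, smul_eq_mul, hx1,
          hA.self_eq_zero, Symp.alt_swap hA v y] at this
        linear_combination this
      have h3 : φ x0 = 1 := (zmod_two_cases _).resolve_left fun e =>
        hφ (LinearMap.ext fun y => by rw [key, e, zero_mul]; rfl)
      exact ⟨v, hv, fun x => by rw [h, key, h3, one_mul]⟩
    · rintro ⟨p, hp, h⟩
      obtain ⟨x0, hx0⟩ := hex p hp
      exact ⟨p, B.flip p, hp, fun e => one_ne_zero (hx0.symm.trans congr($e x0)), h⟩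
  have htv : ∀ v, v ≠ 0 → ((Symp.spTv n v (1 : ZMod 2)).1 - 1).rank = 1 := fun v hv =>
    (hD _).2 ⟨v, hv, fun x => by rw [Symp.spTv_mulVec, one_mul]⟩
  refine isClass ((Symp.isom B).subtype.comp (Symp.spEquiv (Fin n) (ZMod 2)).toMonoidHom)
    ((Symp.isom B).subtype_injective.comp (Symp.spEquiv _ _).injective) h2 _ (fun p => B.flip p)
    {p | p ≠ 0} hD (fun p _ => hA.self_eq_zero p) (fun p hp => ⟨hp, ?_⟩) (fun p _ p' _ => ?_)
    (fun g p x => Symp.sp_form g x p)
    (fun g p hp => (LinearEquiv.map_eq_zero_iff _).not.2 hp) (fun p hp p' hp' => ?_) ?_ ?_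
  · obtain ⟨x, hx⟩ := hex p hp
    exact ⟨x, fun e => one_ne_zero (hx.symm.trans e)⟩
  · change (B p' p = 0 ∧ B p p' = 0) ∨ B p' p * B p p' = 1
    rw [Symp.alt_swap hA p' p]
    rcases zmod_two_cases (B p p') with h | h <;> simp [h]
  · obtain ⟨g, hg, e⟩ := Symp.exists_isom_of_ne_zero hB hA hp hp'
    obtain ⟨A, hA⟩ := Symp.exists_sp_of_mem_isom hg
    exact ⟨A, (hA p).trans e⟩
  · exact ⟨_, htv (Pi.single (Sum.inl ⟨0, hn⟩) 1) (by simp)⟩
  · rw [eq_top_iff, ← Symp.closure_spTv n, Subgroup.closure_le]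
    rintro _ ⟨v, c, rfl⟩
    rcases zmod_two_cases c with rfl | rfl
    · rw [Symp.spTv_zero]
      exact one_mem _
    · by_cases hv : v = 0
      · have : Symp.spTv n v 1 = 1 := Symp.sp_ext fun x => by simp [Symp.spTv_mulVec, hv]
        rw [this]
        exact one_mem _
      · exact Subgroup.subset_closure (htv v hv)

open CL.Herm in
/-- Unitary transvections over the field with four elements. -/
theorem unitary (F : Type*) [Field F] [Fintype F] (hF : Fintype.card F = 4) (n : ℕ) (hn : 4 ≤ n) :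
    Cfsg.IsThreeTranspositionClass {g : ↥(Cfsg.SU n F 2) |
      (((g : Matrix.SpecialLinearGroup (Fin n) F) : Matrix (Fin n) (Fin n) F) - 1).rank = 1} := by
  obtain ⟨σ, hσ⟩ := exists_conj' (F := F) (q := 2) hF
  have h2 : (2 : F) = 0 := Orth.two_eq_zero_of_even_card (by rw [hF]; decide)
  let B := stdForm σ (Fin n)
  have H : IsHerm 2 B := hσ.isHerm_std _
  have hdim : finrank F (Fin n → F) = n := by simp
  have hex : ∀ v, v ≠ 0 → ∃ x, B x v = 1 := fun v hv => by
    obtain ⟨x, hx⟩ : ∃ x, B v x ≠ 0 := by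
      by_contra hc
      push Not at hc
      exact hv (H.nd v hc)
    exact ⟨(B v x)⁻¹ • x, H.eq_one_symm (by rw [map_smul, smul_eq_mul, inv_mul_cancel₀ hx])⟩
  have hfix : ∀ c : F, c + σ c = 0 → c = 0 ∨ c = 1 := fun c hc => by
    rw [hσ.apply] at hc
    have : c * (c - 1) = 0 := by linear_combination hc - c * h2
    simpa [sub_eq_zero] using this
  have hD : ∀ g : Cfsg.SU n F 2,
      (((g : Matrix.SpecialLinearGroup (Fin n) F) : Matrix (Fin n) (Fin n) F) - 1).rank = 1 ↔
      ∃ p, (p ≠ 0 ∧ B p p = 0) ∧ ∀ x, (hσ.suEquiv n g).1 x = x + B p x • p := by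
    intro g
    rw [rank_eq_one_iff]
    change (∃ (v : Fin n → F) (φ : (Fin n → F) →ₗ[F] F), v ≠ 0 ∧ φ ≠ 0 ∧
      ∀ x, (hσ.suEquiv n g).1 x = x + φ x • v) ↔ _
    obtain ⟨hU, hdet⟩ := mem_SUG.1 (hσ.suEquiv n g).2
    constructor
    · rintro ⟨v, φ, hv, hφ, h⟩
      obtain ⟨x0, hx1⟩ := hex v hv
      have hφv : φ v = 0 := by
        have : ((hσ.suEquiv n g).1 : (Fin n → F) →ₗ[F] (Fin n → F)) =
            LinearMap.transvection φ v := LinearMap.ext h
        rw [this, LinearMap.transvection.det] at hdet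
        simpa using hdet
      have hvv : B v v = 0 := by
        obtain ⟨y, hy⟩ := LinearMap.surjective_of_ne_zero hφ 1
        have := hU v y
        rw [h, h, hφv, hy] at this
        simpa using this
      have key : ∀ y, φ y = σ (φ x0) * B v y := fun y => by
        have : B _ _ = B _ _ := hU x0 y
        rw [h, h] at this
        simp only [map_add, LinearMap.map_smulₛₗ, LinearMap.add_apply, LinearMap.smul_apply,
          smul_eq_mul, hx1, hvv, RingHom.id_apply] at this
        linear_combination this - σ (φ x0) * B v y * h2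
      have h3 : φ x0 = 1 := by
        have h4 := key x0
        rw [H.eq_one_symm hx1, mul_one] at h4
        refine (hfix _ (by linear_combination φ x0 * h2 - h4)).resolve_left fun e =>
          hφ (LinearMap.ext fun y => by rw [key, e, map_zero, zero_mul]; rfl)
      exact ⟨v, ⟨hv, hvv⟩, fun x => by rw [h, key, h3, map_one, one_mul]⟩
    · rintro ⟨p, hp, h⟩
      obtain ⟨x0, hx0⟩ := hex p hp.1
      exact ⟨p, B p, hp.1, fun e => one_ne_zero ((H.eq_one_symm hx0).symm.trans congr($e x0)), h⟩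
  have htv : ∀ p, p ≠ 0 → B p p = 0 → ∀ t, IsTv B p 1 t → ∃ g : Cfsg.SU n F 2,
      (((g : Matrix.SpecialLinearGroup (Fin n) F) : Matrix (Fin n) (Fin n) F) - 1).rank = 1 ∧
      (hσ.suEquiv n g).1 = t := fun p hp0 hp t ht => by
    refine ⟨(hσ.suEquiv n).symm ⟨t, ht.mem_SUG H hp (by rw [map_one]; linear_combination h2)⟩,
      (hD _).2 ⟨p, ⟨hp0, hp⟩, fun x => ?_⟩, by simp⟩
    simpa using ht x
  let ρ : Cfsg.SU n F 2 →* ((Fin n → F) ≃ₗ[F] (Fin n → F)) :=
    (SUG B).subtype.comp (hσ.suEquiv n).toMonoidHom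
  have hρ : Function.Injective ρ := (SUG B).subtype_injective.comp (hσ.suEquiv n).injective
  refine isClass ρ hρ h2 _ (fun p => B p)
    {p | p ≠ 0 ∧ B p p = 0} hD (fun p hp => hp.2) (fun p hp => ⟨hp.1, ?_⟩) (fun p _ p' _ => ?_)
    (fun g p x => SUG_le_UG (hσ.suEquiv n g).2 p x)
    (fun g p hp => ⟨by simpa using hp.1, (SUG_le_UG (hσ.suEquiv n g).2 p p).trans hp.2⟩)
    (fun p hp p' hp' => ?_) ?_ ?_
  · obtain ⟨x, hx⟩ := hex p hp.1
    exact ⟨x, by rw [H.eq_one_symm hx]; exact one_ne_zero⟩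
  · by_cases h : B p p' = 0
    · exact Or.inl ⟨h, H.eq_zero_symm h⟩
    · right
      rw [← H.symm p p', hσ.norm_eq]
      have := FiniteField.pow_card_sub_one_eq_one _ h
      rwa [hF] at this
  · obtain ⟨g, hg, e⟩ := H.exists_eichG_apply_isotropic H.nd_top (by rw [finrank_top]; omega)
      trivial trivial hp.1 hp'.1 hp.2 hp'.2
    exact ⟨(hσ.suEquiv n).symm ⟨g, H.eichG_le_SUG _ hg⟩, by simpa [ρ] using e⟩
  · obtain ⟨p, -, hp0, hp⟩ := H.exists_isotropic H.nd_top (by rw [finrank_top]; omega)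
    obtain ⟨t, ht⟩ := exists_isTv' hp 1
    obtain ⟨g, hg, -⟩ := htv p hp0 hp t ht
    exact ⟨g, hg⟩
  · apply Subgroup.map_injective (f := ρ) hρ
    have h1 : (⊤ : Subgroup (Cfsg.SU n F 2)).map ρ = SUG B := by
      rw [← Subgroup.map_map, Subgroup.map_top_of_surjective _ (hσ.suEquiv n).surjective,
        ← MonoidHom.range_eq_map, Subgroup.range_subtype]
    refine le_antisymm (Subgroup.map_mono le_top) ?_
    rw [h1, ← H.tvG_eq_SUG (by omega), tvG, Subgroup.closure_le]
    rintro t ⟨p, c, hp, hc, ht⟩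
    rcases hfix c hc with rfl | rfl
    · rw [ht.unique (IsTv.one p)]
      exact one_mem _
    · by_cases hp0 : p = 0
      · subst hp0
        rw [ht.unique (IsTv.one' 1)]
        exact one_mem _
      · obtain ⟨g, hg, e⟩ := htv p hp0 hp t ht
        exact ⟨g, Subgroup.subset_closure hg, e⟩

end CL.ThreeTr
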