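import Cfsg.Agent.Base

/-!
# Alternating forms: isometry group, transvections, Witt's lemma

For a non-degenerate alternating form `B` on a finite-dimensional space every linear isometry between
subspaces is induced by a product of symplectic transvections.  This gives Witt's lemma and generation of the
isometry group by transvections at once.
-/

set_option autoImplicit false

namespace CL.Symp

open Module LinearMap

variable {F V : Type*} [Field F] [AddCommGroup V] [Module F V]

/-- The isometry group of a bilinear form, inside the group of linear automorphisms. -/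
def isom (B : LinearMap.BilinForm F V) : Subgroup (V ≃ₗ[F] V) where
  carrier := {g | ∀ u v, B (g u) (g v) = B u v}
  mul_mem' {a b} ha hb := by
    intro u v
    simp only [LinearEquiv.mul_apply]
    rw [ha, hb]
  one_mem' := by intro u v; rfl
  inv_mem' {a} ha := by
    intro u v
    have := ha (a⁻¹ u) (a⁻¹ v)
    rw [← this]
    simp [LinearEquiv.coe_inv]

theorem mem_isom {B : LinearMap.BilinForm F V} {g : V ≃ₗ[F] V} :
    g ∈ isom B ↔ ∀ u v, B (g u) (g v) = B u v := Iff.rfl

theorem alt_swap {B : LinearMap.BilinForm F V} (hA : B.IsAlt) (u v : V) : B u v = - B v u :=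
  (hA.neg_eq v u).symm

/-- The symplectic transvection `x ↦ x + c B(x, v) v`. -/
def tv {B : LinearMap.BilinForm F V} (hA : B.IsAlt) (v : V) (c : F) : V ≃ₗ[F] V :=
  LinearEquiv.transvection (f := c • B.flip v) (v := v) (by simp [hA.self_eq_zero])

theorem tv_apply {B : LinearMap.BilinForm F V} (hA : B.IsAlt) (v : V) (c : F) (x : V) :
    tv hA v c x = x + (c * B x v) • v := by
  simp [tv, LinearMap.transvection.apply]

theorem tv_mem_isom {B : LinearMap.BilinForm F V} (hA : B.IsAlt) (v : V) (c : F) :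
    tv hA v c ∈ isom B := by
  intro x y
  simp only [tv_apply, map_add, map_smul, LinearMap.add_apply, LinearMap.smul_apply, smul_eq_mul,
    hA.self_eq_zero]
  rw [alt_swap hA v y]
  ring

theorem tv_mul {B : LinearMap.BilinForm F V} (hA : B.IsAlt) (v : V) (c d : F) :
    tv hA v c * tv hA v d = tv hA v (c + d) := by
  ext x
  simp only [LinearEquiv.mul_apply, tv_apply, map_add, map_smul, hA.self_eq_zero]
  module

theorem tv_zero {B : LinearMap.BilinForm F V} (hA : B.IsAlt) (v : V) : tv hA v 0 = 1 := by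
  ext x
  simp [tv_apply]

theorem tv_smul {B : LinearMap.BilinForm F V} (hA : B.IsAlt) (v : V) (a c : F) :
    tv hA (a • v) c = tv hA v (a ^ 2 * c) := by
  ext x
  simp only [tv_apply, map_smul, smul_eq_mul]
  module

theorem conj_tv {B : LinearMap.BilinForm F V} (hA : B.IsAlt) {g : V ≃ₗ[F] V} (hg : g ∈ isom B)
    (v : V) (c : F) : g * tv hA v c * g⁻¹ = tv hA (g v) c := by
  ext x
  have h := hg (g⁻¹ x) v
  simp only [LinearEquiv.coe_inv, LinearEquiv.apply_symm_apply] at h
  simp [LinearEquiv.mul_apply, tv_apply, LinearEquiv.coe_inv, h]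

/-- The group generated by the transvections along vectors of the subspace `U`. -/
def tvSub {B : LinearMap.BilinForm F V} (hA : B.IsAlt) (U : Submodule F V) : Subgroup (V ≃ₗ[F] V) :=
  Subgroup.closure {g | ∃ v ∈ U, ∃ c, g = tv hA v c}

theorem tv_mem_tvSub {B : LinearMap.BilinForm F V} (hA : B.IsAlt) {U : Submodule F V} {v : V}
    (hv : v ∈ U) (c : F) : tv hA v c ∈ tvSub hA U :=
  Subgroup.subset_closure ⟨v, hv, c, rfl⟩

theorem tvSub_le_isom {B : LinearMap.BilinForm F V} (hA : B.IsAlt) (U : Submodule F V) :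
    tvSub hA U ≤ isom B := by
  rw [tvSub, Subgroup.closure_le]
  rintro _ ⟨v, -, c, rfl⟩
  exact tv_mem_isom hA v c

theorem tvSub_mono {B : LinearMap.BilinForm F V} (hA : B.IsAlt) {U U' : Submodule F V}
    (h : U ≤ U') : tvSub hA U ≤ tvSub hA U' := by
  apply Subgroup.closure_mono
  rintro _ ⟨v, hv, c, rfl⟩
  exact ⟨v, h hv, c, rfl⟩

theorem tvSub_orthogonal_fix {B : LinearMap.BilinForm F V} (hA : B.IsAlt) {S : Submodule F V}
    {g : V ≃ₗ[F] V} (hg : g ∈ tvSub hA (B.orthogonal S)) {s : V} (hs : s ∈ S) : g s = s := by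
  induction hg using Subgroup.closure_induction with
  | mem g hg =>
    obtain ⟨v, hv, c, rfl⟩ := hg
    have : B s v = 0 := hv s hs
    simp [tv_apply, this]
  | one => rfl
  | mul a b _ _ ha hb => simp [LinearEquiv.mul_apply, ha, hb]
  | inv a _ ha =>
    have : a⁻¹ (a s) = s := by simp [LinearEquiv.coe_inv]
    rwa [ha] at this

/-- One transvection moves `x` to `y` when `B x y ≠ 0`. -/
theorem step_ne {B : LinearMap.BilinForm F V} (hA : B.IsAlt) {S : Submodule F V} {x y : V}
    (h : ∀ s ∈ S, B s x = B s y) (hxy : B x y ≠ 0) :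
    ∃ g ∈ tvSub hA (B.orthogonal S), g x = y := by
  refine ⟨tv hA (y - x) (B x y)⁻¹, tv_mem_tvSub hA ?_ _, ?_⟩
  · intro s hs
    simp [h s hs]
  · simp [tv_apply, hA.self_eq_zero, inv_mul_cancel₀ hxy]

variable [FiniteDimensional F V]

theorem exists_orthogonal_ne {B : LinearMap.BilinForm F V} (hB : B.Nondegenerate) (hA : B.IsAlt)
    {S : Submodule F V} {x : V} (hx : x ∉ S) : ∃ z ∈ B.orthogonal S, B x z ≠ 0 := by
  by_contra hcon
  push Not at hcon
  apply hx
  rw [← LinearMap.BilinForm.orthogonal_orthogonal hB hA.isRefl S]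
  intro z hz
  exact hA.isRefl _ _ (hcon z hz)

theorem exists_orthogonal_ne₂ {B : LinearMap.BilinForm F V} (hB : B.Nondegenerate) (hA : B.IsAlt)
    {S : Submodule F V} {x y : V} (hx : x ∉ S) (hy : y ∉ S) :
    ∃ z ∈ B.orthogonal S, B x z ≠ 0 ∧ B y z ≠ 0 := by
  obtain ⟨z₁, hz₁, h₁⟩ := exists_orthogonal_ne hB hA hx
  obtain ⟨z₂, hz₂, h₂⟩ := exists_orthogonal_ne hB hA hy
  by_cases h₁' : B y z₁ = 0
  · by_cases h₂' : B x z₂ = 0
    · exact ⟨z₁ + z₂, add_mem hz₁ hz₂, by simpa [h₂'] using h₁, by simpa [h₁'] using h₂⟩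
    · exact ⟨z₂, hz₂, h₂', h₂⟩
  · exact ⟨z₁, hz₁, h₁, h₁'⟩

/-- The key step: at most two transvections fixing `S` move `x` to `y`. -/
theorem step {B : LinearMap.BilinForm F V} (hB : B.Nondegenerate) (hA : B.IsAlt)
    {S : Submodule F V} {x y : V} (hx : x ∉ S) (hy : y ∉ S) (h : ∀ s ∈ S, B s x = B s y) :
    ∃ g ∈ tvSub hA (B.orthogonal S), g x = y := by
  by_cases hxy : B x y = 0
  · obtain ⟨z, hz, h₁, h₂⟩ := exists_orthogonal_ne₂ hB hA hx hy
    obtain ⟨g₁, hg₁, e₁⟩ := step_ne hA (S := S) (x := x) (y := x + z)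
      (fun s hs => by have : B s z = 0 := hz s hs; simp [this])
      (by simpa [hA.self_eq_zero] using h₁)
    obtain ⟨g₂, hg₂, e₂⟩ := step_ne hA (S := S) (x := x + z) (y := y)
      (fun s hs => by have : B s z = 0 := hz s hs; simp [this, h s hs])
      (by
        simp only [map_add, LinearMap.add_apply, hxy, zero_add]
        rw [alt_swap hA]
        simpa using h₂)
    exact ⟨g₂ * g₁, mul_mem hg₂ hg₁, by simp [LinearEquiv.mul_apply, e₁, e₂]⟩
  · exact step_ne hA h hxy

/-- Relative Witt lemma for a globally defined linear map. -/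
theorem witt_rel {B : LinearMap.BilinForm F V} (hB : B.Nondegenerate) (hA : B.IsAlt)
    (S X : Submodule F V) (φ : V →ₗ[F] V) (hS : ∀ s ∈ S, φ s = s)
    (hinj : ∀ x ∈ S ⊔ X, φ x = 0 → x = 0)
    (hφ : ∀ x ∈ S ⊔ X, ∀ y ∈ S ⊔ X, B (φ x) (φ y) = B x y) :
    ∃ g ∈ tvSub hA (B.orthogonal S), ∀ x ∈ S ⊔ X, g x = φ x := by
  obtain ⟨t, rfl⟩ : X.FG := IsNoetherian.noetherian X
  classical
  induction t using Finset.induction_on with
  | empty => exact ⟨1, one_mem _, fun x hx => by simpa using (hS x (by simpa using hx)).symm⟩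
  | insert a t _ ih =>
    have hle : S ⊔ Submodule.span F (t : Set V) ≤
        S ⊔ Submodule.span F ((insert a t : Finset V) : Set V) :=
      sup_le_sup_left (Submodule.span_mono (by simp)) _
    have ha : a ∈ S ⊔ Submodule.span F ((insert a t : Finset V) : Set V) :=
      Submodule.mem_sup_right (Submodule.subset_span (by simp))
    obtain ⟨g, hg, hgφ⟩ := ih (fun x hx => hinj x (hle hx))
      (fun x hx y hy => hφ x (hle hx) y (hle hy))
    set X := S ⊔ Submodule.span F (t : Set V) with hX
    have hdec : ∀ x ∈ S ⊔ Submodule.span F ((insert a t : Finset V) : Set V),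
        ∃ c : F, ∃ u ∈ X, x = c • a + u := by
      intro x hx
      rw [Finset.coe_insert, Submodule.span_insert, sup_left_comm, Submodule.mem_sup] at hx
      obtain ⟨y, hy, u, hu, rfl⟩ := hx
      obtain ⟨c, rfl⟩ := Submodule.mem_span_singleton.1 hy
      exact ⟨c, u, hu, rfl⟩
    by_cases haX : a ∈ X
    · refine ⟨g, hg, fun x hx => ?_⟩
      obtain ⟨c, u, hu, rfl⟩ := hdec x hx
      exact hgφ _ (add_mem (X.smul_mem c haX) hu)
    · have hgi := tvSub_le_isom hA _ hg
      obtain ⟨g', hg', e⟩ := step hB hA (S := X.map (g : V →ₗ[F] V)) (x := g a) (y := φ a)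
        (by
          rintro ⟨u, hu, e⟩
          exact haX (g.injective e ▸ hu))
        (by
          rintro ⟨u, hu, e⟩
          have h0 : φ (a - u) = 0 := by
            rw [map_sub, ← e, ← hgφ u hu]; simp
          have := hinj _ (sub_mem ha (hle hu)) h0
          exact haX (sub_eq_zero.1 this ▸ hu))
        (by
          rintro _ ⟨u, hu, rfl⟩
          simp only [LinearEquiv.coe_coe]
          rw [hgi u a, hgφ u hu, hφ u (hle hu) a ha])
      have hSle : S ≤ X.map (g : V →ₗ[F] V) := fun s hs =>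
        ⟨s, Submodule.mem_sup_left hs, tvSub_orthogonal_fix hA hg hs⟩
      refine ⟨g' * g, mul_mem (tvSub_mono hA (LinearMap.BilinForm.orthogonal_le hSle) hg') hg,
        fun x hx => ?_⟩
      obtain ⟨c, u, hu, rfl⟩ := hdec x hx
      have hu' : g' (g u) = g u := tvSub_orthogonal_fix hA hg' ⟨u, hu, rfl⟩
      simp [LinearEquiv.mul_apply, e, hgφ u hu ▸ hu', hgφ u hu]

/-- Witt's lemma for a globally defined linear map, through transvections. -/
theorem witt_top {B : LinearMap.BilinForm F V} (hB : B.Nondegenerate) (hA : B.IsAlt)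
    (X : Submodule F V) (φ : V →ₗ[F] V) (hinj : ∀ x ∈ X, φ x = 0 → x = 0)
    (hφ : ∀ x ∈ X, ∀ y ∈ X, B (φ x) (φ y) = B x y) :
    ∃ g ∈ tvSub hA ⊤, ∀ x ∈ X, g x = φ x := by
  have := witt_rel hB hA ⊥ X φ (by simp) (by simpa using hinj) (by simpa using hφ)
  simpa using this

/-- Witt's lemma: an injective isometric linear map from a subspace is induced by a product of
transvections. -/
theorem witt {B : LinearMap.BilinForm F V} (hB : B.Nondegenerate) (hA : B.IsAlt)
    (X : Submodule F V) (φ : X →ₗ[F] V) (hinj : Function.Injective φ)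
    (hφ : ∀ x y : X, B (φ x) (φ y) = B x y) :
    ∃ g ∈ tvSub hA ⊤, ∀ x : X, g x = φ x := by
  obtain ⟨ψ, hψ⟩ := LinearMap.exists_extend φ
  have e : ∀ x : X, ψ x = φ x := fun x => by rw [← hψ]; rfl
  obtain ⟨g, hg, h⟩ := witt_top hB hA X ψ
    (fun x hx h0 => by
      have : φ ⟨x, hx⟩ = 0 := by rw [← e]; exact h0
      have := hinj (this.trans (map_zero φ).symm)
      simpa using this)
    (fun x hx y hy => by
      have := hφ ⟨x, hx⟩ ⟨y, hy⟩
      rwa [← e, ← e] at this)
  exact ⟨g, hg, fun x => by rw [h x x.2, e]⟩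

/-- The isometry group of a non-degenerate alternating form is generated by transvections. -/
theorem tvSub_top {B : LinearMap.BilinForm F V} (hB : B.Nondegenerate) (hA : B.IsAlt) :
    tvSub hA ⊤ = isom B := by
  refine le_antisymm (tvSub_le_isom hA _) fun g hg => ?_
  obtain ⟨g', hg', h⟩ := witt_top hB hA ⊤ (g : V →ₗ[F] V) (by simp) (fun x _ y _ => hg x y)
  have : g' = g := by ext x; simpa using h x trivial
  exact this ▸ hg'

/-- The pointwise stabiliser of `S` is generated by the transvections along vectors of `S^⊥`. -/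
theorem mem_tvSub_orthogonal {B : LinearMap.BilinForm F V} (hB : B.Nondegenerate) (hA : B.IsAlt)
    (S : Submodule F V) {g : V ≃ₗ[F] V} :
    g ∈ tvSub hA (B.orthogonal S) ↔ g ∈ isom B ∧ ∀ s ∈ S, g s = s := by
  refine ⟨fun hg => ⟨tvSub_le_isom hA _ hg, fun s hs => tvSub_orthogonal_fix hA hg hs⟩,
    fun ⟨hg, hs⟩ => ?_⟩
  obtain ⟨g', hg', h⟩ := witt_rel hB hA S ⊤ (g : V →ₗ[F] V) hs (by simp) (fun x _ y _ => hg x y)
  have : g' = g := by ext x; simpa using h x (by simp)
  exact this ▸ hg'

/-- Witt's lemma for linearly independent families with equal Gram matrices. -/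
theorem witt_family {B : LinearMap.BilinForm F V} (hB : B.Nondegenerate) (hA : B.IsAlt)
    {ι : Type*} {x y : ι → V} (hx : LinearIndependent F x) (hy : LinearIndependent F y)
    (h : ∀ i j, B (y i) (y j) = B (x i) (x j)) : ∃ g ∈ isom B, ∀ i, g (x i) = y i := by
  let b := Basis.span hx
  let φ : Submodule.span F (Set.range x) →ₗ[F] V := b.constr F y
  have hφb : ∀ i, φ (b i) = y i := fun i => by simp [φ]
  have hinj : Function.Injective φ := by
    have : LinearIndependent F (φ ∘ b) := by
      have : φ ∘ b = y := funext hφb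
      rwa [this]
    exact LinearMap.injective_of_linearIndependent b.span_eq this
  have hφ : ∀ u v, B (φ u) (φ v) = B u v := by
    have : B.compl₁₂ φ φ = B.compl₁₂ (Submodule.subtype _) (Submodule.subtype _) := by
      apply b.ext; intro i; apply b.ext; intro j
      simp only [LinearMap.compl₁₂_apply, hφb, h, Submodule.coe_subtype]
      simp [b]
    intro u v
    exact congr($this u v)
  obtain ⟨g, hg, e⟩ := witt hB hA _ φ hinj hφ
  refine ⟨g, tvSub_le_isom hA _ hg, fun i => ?_⟩
  have := e (b i)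
  rwa [hφb, Basis.span_apply] at this

end CL.Symp
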