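import Cfsg.Agent.Symp.Witt

/-!
# Symplectic bases

Hyperbolic families, existence of a symplectic basis (with a basis of the radical in the degenerate case).
-/

set_option autoImplicit false

namespace CL.Symp

open Module LinearMap

variable {F V : Type*} [Field F] [AddCommGroup V] [Module F V]

/-- `e, f` form a hyperbolic family for `B`. -/
structure IsHyp (B : LinearMap.BilinForm F V) {ι : Type*} [DecidableEq ι] (e f : ι → V) : Prop where
  ef : ∀ i j, B (e i) (f j) = if i = j then 1 else 0
  ee : ∀ i j, B (e i) (e j) = 0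
  ff : ∀ i j, B (f i) (f j) = 0

theorem IsHyp.fe {B : LinearMap.BilinForm F V} (hA : B.IsAlt) {ι : Type*} [DecidableEq ι]
    {e f : ι → V} (h : IsHyp B e f) (i j : ι) : B (f i) (e j) = if i = j then -1 else 0 := by
  rw [alt_swap hA, h.ef]
  by_cases hij : i = j
  · simp [hij]
  · simp [hij, Ne.symm hij]

theorem IsHyp.linearIndependent {B : LinearMap.BilinForm F V} {ι : Type*}
    [DecidableEq ι] {e f : ι → V} (h : IsHyp B e f) : LinearIndependent F (Sum.elim e f) := by
  refine LinearIndependent.of_pairwise_dual_eq_zero_one _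
    (Sum.elim (fun i => B.flip (f i)) (fun i => B (e i))) ?_ ?_
  · rintro (i | i) (j | j) hij
    · have : j ≠ i := fun e => hij (by rw [e])
      simp [h.ef, this]
    · simp [h.ff]
    · simp [h.ee]
    · have : i ≠ j := fun e => hij (by rw [e])
      simp [h.ef, this]
  · rintro (i | i) <;> simp [h.ef]

/-- The component of `x` orthogonal to a finite hyperbolic family. -/
theorem IsHyp.sub_mem_orthogonal {B : LinearMap.BilinForm F V} (hA : B.IsAlt) {ι : Type*}
    [DecidableEq ι] [Fintype ι] {e f : ι → V} (h : IsHyp B e f) (x : V) :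
    x - ∑ i, (B x (f i) • e i + B (e i) x • f i) ∈
      B.orthogonal (Submodule.span F (Set.range (Sum.elim e f))) := by
  intro y hy
  induction hy using Submodule.span_induction with
  | mem y hy =>
    obtain ⟨(j | j), rfl⟩ := hy
    · simp [map_sum, h.ee, h.ef]
    · simp [map_sum, h.ff, h.fe hA, alt_swap hA (f j) x]
  | zero => simp
  | add a b _ _ ha hb => simp only [map_add, LinearMap.add_apply, ha, hb, add_zero]
  | smul c a _ ha => simp only [map_smul, LinearMap.smul_apply, ha, smul_zero]

theorem IsHyp.isCompl {B : LinearMap.BilinForm F V} (hA : B.IsAlt) {ι : Type*}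
    [DecidableEq ι] [Fintype ι] {e f : ι → V} (h : IsHyp B e f) :
    IsCompl (Submodule.span F (Set.range (Sum.elim e f)))
      (B.orthogonal (Submodule.span F (Set.range (Sum.elim e f)))) := by
  have he : ∀ i, e i ∈ Submodule.span F (Set.range (Sum.elim e f)) := fun i =>
    Submodule.subset_span ⟨Sum.inl i, rfl⟩
  have hf : ∀ i, f i ∈ Submodule.span F (Set.range (Sum.elim e f)) := fun i =>
    Submodule.subset_span ⟨Sum.inr i, rfl⟩
  constructor
  · rw [Submodule.disjoint_def]
    intro x hx hx'
    obtain ⟨c, rfl⟩ := (Submodule.mem_span_range_iff_exists_fun F).1 hx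
    have h1 : ∀ i, c (Sum.inr i) = 0 := fun i => by
      have : B (e i) _ = 0 := hx' _ (he i)
      simpa [map_sum, h.ee, h.ef] using this
    have h2 : ∀ i, c (Sum.inl i) = 0 := fun i => by
      have : B (f i) _ = 0 := hx' _ (hf i)
      simpa [map_sum, h.ff, h.fe hA, apply_ite (c (Sum.inl _) * ·)] using this
    simp [h1, h2]
  · rw [codisjoint_iff, eq_top_iff]
    intro x _
    have := h.sub_mem_orthogonal hA x
    rw [← add_sub_cancel (∑ i, (B x (f i) • e i + B (e i) x • f i)) x]
    exact Submodule.add_mem_sup (Submodule.sum_mem _ fun i _ =>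
      add_mem (Submodule.smul_mem _ _ (he i)) (Submodule.smul_mem _ _ (hf i))) this

theorem IsHyp.cons {B : LinearMap.BilinForm F V} (hA : B.IsAlt) {m : ℕ} {e f : Fin m → V}
    (h : IsHyp B e f) {u v : V} (huv : B u v = 1)
    (hu : u ∈ B.orthogonal (Submodule.span F (Set.range (Sum.elim e f))))
    (hv : v ∈ B.orthogonal (Submodule.span F (Set.range (Sum.elim e f)))) :
    IsHyp B (Fin.cons u e : Fin (m + 1) → V) (Fin.cons v f) := by
  have he : ∀ i, e i ∈ Submodule.span F (Set.range (Sum.elim e f)) := fun i =>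
    Submodule.subset_span ⟨Sum.inl i, rfl⟩
  have hf : ∀ i, f i ∈ Submodule.span F (Set.range (Sum.elim e f)) := fun i =>
    Submodule.subset_span ⟨Sum.inr i, rfl⟩
  have h1 : ∀ i, B (e i) u = 0 := fun i => hu _ (he i)
  have h2 : ∀ i, B (f i) u = 0 := fun i => hu _ (hf i)
  have h3 : ∀ i, B (e i) v = 0 := fun i => hv _ (he i)
  have h4 : ∀ i, B (f i) v = 0 := fun i => hv _ (hf i)
  have h1' : ∀ i, B u (e i) = 0 := fun i => hA.isRefl _ _ (h1 i)
  have h2' : ∀ i, B u (f i) = 0 := fun i => hA.isRefl _ _ (h2 i)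
  have h4' : ∀ i, B v (f i) = 0 := fun i => hA.isRefl _ _ (h4 i)
  constructor
  · intro i j
    refine Fin.cases ?_ (fun i => ?_) i <;> refine Fin.cases ?_ (fun j => ?_) j <;>
      simp [huv, h2', h3, h.ef, Fin.succ_ne_zero, (Fin.succ_ne_zero _).symm]
  · intro i j
    refine Fin.cases ?_ (fun i => ?_) i <;> refine Fin.cases ?_ (fun j => ?_) j <;>
      simp [hA.self_eq_zero, h1, h1', h.ee]
  · intro i j
    refine Fin.cases ?_ (fun i => ?_) i <;> refine Fin.cases ?_ (fun j => ?_) j <;>
      simp [hA.self_eq_zero, h4, h4', h.ff]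

variable [FiniteDimensional F V]

theorem IsHyp.two_mul_le {B : LinearMap.BilinForm F V} {ι : Type*}
    [DecidableEq ι] [Fintype ι] {e f : ι → V} (h : IsHyp B e f) :
    2 * Fintype.card ι ≤ finrank F V := by
  have := (h.linearIndependent).fintype_card_le_finrank
  simp only [Fintype.card_sum] at this
  omega

/-- A maximal hyperbolic family: its orthogonal complement is the radical. -/
theorem exists_isHyp_max {B : LinearMap.BilinForm F V} (hA : B.IsAlt) :
    ∃ (m : ℕ) (e f : Fin m → V), IsHyp B e f ∧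
      ∀ w ∈ B.orthogonal (Submodule.span F (Set.range (Sum.elim e f))), ∀ v, B w v = 0 := by
  by_contra hcon
  push Not at hcon
  have key : ∀ m : ℕ, ∃ e f : Fin m → V, IsHyp B e f := by
    intro m
    induction m with
    | zero => exact ⟨Fin.elim0, Fin.elim0, ⟨fun i => i.elim0, fun i => i.elim0, fun i => i.elim0⟩⟩
    | succ m ih =>
      obtain ⟨e, f, h⟩ := ih
      obtain ⟨w, hw, v, hv⟩ := hcon m e f h
      have hv' := h.sub_mem_orthogonal hA v
      set v' := v - ∑ i, (B v (f i) • e i + B (e i) v • f i) with hv'def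
      have hwv : B w v' = B w v := by
        have he : ∀ i, B w (e i) = 0 := fun i =>
          hA.isRefl _ _ (hw _ (Submodule.subset_span ⟨Sum.inl i, rfl⟩))
        have hf : ∀ i, B w (f i) = 0 := fun i =>
          hA.isRefl _ _ (hw _ (Submodule.subset_span ⟨Sum.inr i, rfl⟩))
        simp [hv'def, map_sum, he, hf]
      exact ⟨_, _, h.cons hA (u := w) (v := (B w v)⁻¹ • v') (by simp [hwv, hv]) hw
        (Submodule.smul_mem _ _ hv')⟩
  obtain ⟨e, f, h⟩ := key (finrank F V + 1)
  have := h.two_mul_le
  simp only [Fintype.card_fin] at this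
  omega

/-- Symplectic basis with a basis of the radical. -/
theorem exists_basis_with_radical {B : LinearMap.BilinForm F V} (hA : B.IsAlt) :
    ∃ (m k : ℕ) (b : Basis ((Fin m ⊕ Fin m) ⊕ Fin k) F V),
      IsHyp B (fun i => b (Sum.inl (Sum.inl i))) (fun i => b (Sum.inl (Sum.inr i))) ∧
      ∀ (j : Fin k) (v : V), B (b (Sum.inr j)) v = 0 := by
  obtain ⟨m, e, f, h, hrad⟩ := exists_isHyp_max hA
  set H := Submodule.span F (Set.range (Sum.elim e f)) with hH
  let b₁ : Basis (Fin m ⊕ Fin m) F H := Basis.span (h.linearIndependent)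
  let b₂ := Module.finBasis F (B.orthogonal H)
  let b := (b₁.prod b₂).map (Submodule.prodEquivOfIsCompl _ _ (h.isCompl hA))
  have hb₁ : ∀ i, b (Sum.inl i) = Sum.elim e f i := fun i => by
    have : (b₁ i : V) = Sum.elim e f i := Basis.coe_span_apply h.linearIndependent i
    simpa [b] using this
  have hb₂ : ∀ i, b (Sum.inr i) = b₂ i := fun i => by simp [b]
  refine ⟨m, _, b, ?_, fun j v => ?_⟩
  · simpa [hb₁] using h
  · rw [hb₂]; exact hrad _ (b₂ j).2 v

/-- A non-degenerate alternating space has a symplectic basis. -/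
theorem exists_symp_basis {B : LinearMap.BilinForm F V} (hB : B.Nondegenerate) (hA : B.IsAlt) :
    ∃ (m : ℕ) (b : Basis (Fin m ⊕ Fin m) F V),
      IsHyp B (fun i => b (Sum.inl i)) (fun i => b (Sum.inr i)) := by
  obtain ⟨m, e, f, h, hrad⟩ := exists_isHyp_max hA
  have htop : ⊤ ≤ Submodule.span F (Set.range (Sum.elim e f)) := by
    have h1 := (h.isCompl hA).sup_eq_top
    have h2 : B.orthogonal (Submodule.span F (Set.range (Sum.elim e f))) = ⊥ := by
      rw [eq_bot_iff]
      intro w hw
      exact hB.1 w (hrad w hw)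
    rw [h2, sup_bot_eq] at h1
    exact h1.ge
  exact ⟨m, Basis.mk (h.linearIndependent) htop, by simpa using h⟩

theorem even_finrank {B : LinearMap.BilinForm F V} (hB : B.Nondegenerate) (hA : B.IsAlt) :
    Even (finrank F V) := by
  obtain ⟨m, b, -⟩ := exists_symp_basis hB hA
  rw [finrank_eq_card_basis b]
  simp

/-- A non-degenerate alternating space of dimension `2 * card ι` has a symplectic basis indexed by
`ι ⊕ ι`. -/
theorem exists_symp_basis' {B : LinearMap.BilinForm F V} (hB : B.Nondegenerate) (hA : B.IsAlt)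
    (ι : Type*) [Fintype ι] [DecidableEq ι] (hV : finrank F V = 2 * Fintype.card ι) :
    ∃ b : Basis (ι ⊕ ι) F V, IsHyp B (fun i => b (Sum.inl i)) (fun i => b (Sum.inr i)) := by
  obtain ⟨m, b, h⟩ := exists_symp_basis hB hA
  have hm : Fintype.card (Fin m) = Fintype.card ι := by
    rw [finrank_eq_card_basis b] at hV
    simp only [Fintype.card_sum] at hV
    omega
  let σ : Fin m ≃ ι := Fintype.equivOfCardEq hm
  refine ⟨b.reindex (Equiv.sumCongr σ σ), ⟨fun i j => ?_, fun i j => ?_, fun i j => ?_⟩⟩
  · simpa using h.ef (σ.symm i) (σ.symm j)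
  · simpa using h.ee (σ.symm i) (σ.symm j)
  · simpa using h.ff (σ.symm i) (σ.symm j)

end CL.Symp
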