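import Cfsg.Agent.Symp.Prod

/-!
# Orders of pointwise stabilisers in finite symplectic groups
-/

set_option autoImplicit false

namespace CL.Symp

open Module LinearMap

variable {F V : Type*} [Field F] [AddCommGroup V] [Module F V]

/-- The pointwise stabiliser of a subspace in the isometry group. -/
def fix (B : LinearMap.BilinForm F V) (S : Submodule F V) : Subgroup (isom B) where
  carrier := {g | ∀ s ∈ S, (g : V ≃ₗ[F] V) s = s}
  mul_mem' {a b} ha hb := fun s hs => by
    simp [LinearEquiv.mul_apply, ha s hs, hb s hs]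
  one_mem' := fun _ _ => rfl
  inv_mem' {a} ha := fun s hs => by
    have : (a⁻¹ : isom B).1 (a.1 s) = s := by simp [LinearEquiv.coe_inv]
    rwa [ha s hs] at this

theorem mem_fix {B : LinearMap.BilinForm F V} {S : Submodule F V} {g : isom B} :
    g ∈ fix B S ↔ ∀ s ∈ S, (g : V ≃ₗ[F] V) s = s := Iff.rfl

theorem fix_bot (B : LinearMap.BilinForm F V) : fix B ⊥ = ⊤ := by
  ext g; simp [mem_fix]

theorem fix_top (B : LinearMap.BilinForm F V) : fix B ⊤ = ⊥ := by
  rw [eq_bot_iff]
  intro g hg
  rw [Subgroup.mem_bot]
  ext v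
  exact hg v trivial

theorem fix_le_stab (B : LinearMap.BilinForm F V) (S : Submodule F V) : fix B S ≤ stab B S := by
  intro g hg v
  refine ⟨fun hv => by rwa [hg v hv], fun hv => ?_⟩
  have := g.1.injective (hg _ hv)
  rwa [← this]

theorem ker_restrictStab (B : LinearMap.BilinForm F V) (S : Submodule F V) :
    (restrictStab B S).ker = (fix B S).subgroupOf (stab B S) := by
  ext g
  rw [MonoidHom.mem_ker, Subgroup.mem_subgroupOf, mem_fix]
  constructor
  · intro h s hs
    exact congrArg (fun x : isom (B.restrict S) => (x.1 ⟨s, hs⟩ : V)) h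
  · intro h
    ext s
    exact h s s.2

variable [FiniteDimensional F V]

theorem restrictStab_surjective {B : LinearMap.BilinForm F V} (hB : B.Nondegenerate) (hA : B.IsAlt)
    (S : Submodule F V) : Function.Surjective (restrictStab B S) := by
  intro g
  obtain ⟨t, ht, e⟩ := witt hB hA S (S.subtype ∘ₗ (g.1 : S →ₗ[F] S))
    (S.injective_subtype.comp g.1.injective) (fun x y => g.2 x y)
  have e' : ∀ x : S, t x = g.1 x := e
  refine ⟨⟨⟨t, tvSub_le_isom hA _ ht⟩, fun v => ⟨fun hv => ?_, fun hv => ?_⟩⟩, ?_⟩
  · have := e' ⟨v, hv⟩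
    change t v ∈ S
    simp only at this
    rw [this]
    exact Subtype.prop _
  · have := e' (g.1.symm ⟨_, hv⟩)
    rw [LinearEquiv.apply_symm_apply] at this
    rw [← t.injective this]
    exact Subtype.prop _
  · ext x
    exact e' x

theorem card_stab {B : LinearMap.BilinForm F V} (hB : B.Nondegenerate) (hA : B.IsAlt)
    (S : Submodule F V) :
    Nat.card (stab B S) = Nat.card (fix B S) * Nat.card (isom (B.restrict S)) := by
  rw [← (restrictStab B S).ker.card_mul_index, Subgroup.index_ker,
    MonoidHom.range_eq_top.2 (restrictStab_surjective hB hA S), Subgroup.card_top,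
    ker_restrictStab, Nat.card_congr (Subgroup.subgroupOfEquivOfLe (fix_le_stab B S)).toEquiv]

/-- Orbit-stabiliser for one step of a chain of subspaces. -/
theorem card_fix_step {B : LinearMap.BilinForm F V} (hB : B.Nondegenerate) (hA : B.IsAlt)
    {S : Submodule F V} {x : V} (hx : x ∉ S) :
    Nat.card (fix B S) = Nat.card (fix B (S ⊔ Submodule.span F {x})) *
      Nat.card {y : V // y ∉ S ∧ ∀ s ∈ S, B s y = B s x} := by
  have h1 : MulAction.orbit (fix B S) x = {y : V | y ∉ S ∧ ∀ s ∈ S, B s y = B s x} := by
    ext y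
    constructor
    · rintro ⟨g, rfl⟩
      refine ⟨fun h => hx ((fix_le_stab B S g.2 x).2 h), fun s hs => ?_⟩
      have := g.1.2 s x
      rw [g.2 s hs] at this
      exact this
    · rintro ⟨hy, h⟩
      obtain ⟨g, hg, e⟩ := step hB hA hx hy (fun s hs => (h s hs).symm)
      exact ⟨⟨⟨g, tvSub_le_isom hA _ hg⟩, fun s hs => tvSub_orthogonal_fix hA hg hs⟩, e⟩
  have hle : fix B (S ⊔ Submodule.span F {x}) ≤ fix B S := fun g hg s hs =>
    hg s (Submodule.mem_sup_left hs)
  have h2 : MulAction.stabilizer (fix B S) x =
      (fix B (S ⊔ Submodule.span F {x})).subgroupOf (fix B S) := by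
    ext g
    rw [MulAction.mem_stabilizer_iff, Subgroup.mem_subgroupOf, mem_fix]
    constructor
    · intro h s hs
      obtain ⟨a, ha, b, hb, rfl⟩ := Submodule.mem_sup.1 hs
      obtain ⟨c, rfl⟩ := Submodule.mem_span_singleton.1 hb
      have h' : g.1.1 x = x := h
      simp [g.2 a ha, h']
    · intro h
      exact h x (Submodule.mem_sup_right (Submodule.mem_span_singleton_self x))
  rw [← (MulAction.stabilizer (fix B S) x).card_mul_index, MulAction.index_stabilizer, h1, h2,
    Nat.card_congr (Subgroup.subgroupOfEquivOfLe hle).toEquiv]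
  rfl

theorem finrank_sup_span_singleton {S : Submodule F V} {x : V} (hx : x ∉ S) :
    finrank F ↥(S ⊔ Submodule.span F {x}) = finrank F S + 1 := by
  have h0 : x ≠ 0 := fun h => hx (h ▸ S.zero_mem)
  have := Submodule.finrank_sup_add_finrank_inf_eq S (Submodule.span F {x})
  rw [((Submodule.disjoint_span_singleton' h0).2 hx).eq_bot, finrank_bot,
    finrank_span_singleton h0] at this
  omega

theorem card_submodule (S : Submodule F V) : Nat.card S = Nat.card F ^ finrank F S :=
  Module.natCard_eq_pow_finrank

/-- The pointwise stabiliser of a coisotropic subspace of codimension `d` has order `q^(d(d+1)/2)`. -/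
theorem card_fix_coisotropic {B : LinearMap.BilinForm F V} (hB : B.Nondegenerate) (hA : B.IsAlt)
    (d : ℕ) (S : Submodule F V) (hS : B.orthogonal S ≤ S) (hd : finrank F S + d = finrank F V) :
    Nat.card (fix B S) = Nat.card F ^ (d * (d + 1) / 2) := by
  induction d generalizing S with
  | zero =>
    have : S = ⊤ := Submodule.eq_top_of_finrank_eq (by simpa using hd)
    subst this
    simp [fix_top]
  | succ d ih =>
    have hne : S ≠ ⊤ := by
      rintro rfl
      rw [finrank_top] at hd
      omega
    obtain ⟨x, hx⟩ : ∃ x, x ∉ S := by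
      by_contra h
      push Not at h
      exact hne (Submodule.eq_top_iff'.2 h)
    rw [card_fix_step hB hA hx, ih (S ⊔ Submodule.span F {x})
      ((LinearMap.BilinForm.orthogonal_le le_sup_left).trans (hS.trans le_sup_left))
      (by rw [finrank_sup_span_singleton hx]; omega)]
    have e : {y : V // y ∉ S ∧ ∀ s ∈ S, B s y = B s x} ≃ B.orthogonal S :=
      { toFun := fun y => ⟨y.1 - x, fun s hs => by
          change B s _ = 0
          rw [map_sub, y.2.2 s hs, sub_self]⟩
        invFun := fun z => ⟨z.1 + x, fun h => hx ((S.add_mem_iff_right (hS z.2)).1 h),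
          fun s hs => by
            have : B s z = 0 := z.2 s hs
            rw [map_add, this, zero_add]⟩
        left_inv := fun y => by simp
        right_inv := fun z => by simp }
    rw [Nat.card_congr e, card_submodule, LinearMap.BilinForm.finrank_orthogonal hB, ← pow_add]
    congr 1
    have : finrank F V - finrank F S = d + 1 := by omega
    rw [this]
    have h2 : (d + 1) * (d + 1 + 1) = d * (d + 1) + (d + 1) * 2 := by ring
    rw [h2, Nat.add_mul_div_right _ _ (by norm_num)]

variable [Finite F]

/-- The order of the pointwise stabiliser of a totally isotropic `k`-subspace in dimension `2 (k + j)`. -/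
theorem card_fix_isotropic {B : LinearMap.BilinForm F V} (hB : B.Nondegenerate) (hA : B.IsAlt)
    (j k : ℕ) (S : Submodule F V) (hS : S ≤ B.orthogonal S) (hk : finrank F S = k)
    (hV : finrank F V = 2 * (k + j)) :
    Nat.card (fix B S) = Nat.card F ^ (k * (k + 1) / 2 + 2 * k * j + j ^ 2) *
      ∏ i ∈ Finset.range j, (Nat.card F ^ (2 * (i + 1)) - 1) := by
  induction j generalizing S k with
  | zero =>
    have hperp : finrank F (B.orthogonal S) = k := by
      rw [LinearMap.BilinForm.finrank_orthogonal hB]; omega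
    have : S = B.orthogonal S := Submodule.eq_of_le_of_finrank_eq hS (by omega)
    rw [card_fix_coisotropic hB hA k S this.ge (by omega)]
    simp
  | succ j ih =>
    have hperp : finrank F (B.orthogonal S) = k + 2 * (j + 1) := by
      rw [LinearMap.BilinForm.finrank_orthogonal hB]; omega
    obtain ⟨x, hx', hx⟩ : ∃ x ∈ B.orthogonal S, x ∉ S := by
      by_contra h
      push Not at h
      have := Submodule.finrank_mono (show B.orthogonal S ≤ S from h)
      omega
    have hS' : S ⊔ Submodule.span F {x} ≤ B.orthogonal (S ⊔ Submodule.span F {x}) := by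
      intro u hu v hv
      obtain ⟨a, ha, b, hb, rfl⟩ := Submodule.mem_sup.1 hu
      obtain ⟨c, rfl⟩ := Submodule.mem_span_singleton.1 hb
      obtain ⟨a', ha', b', hb', rfl⟩ := Submodule.mem_sup.1 hv
      obtain ⟨c', rfl⟩ := Submodule.mem_span_singleton.1 hb'
      have h1 : B a' a = 0 := hS ha a' ha'
      have h2 : B a' x = 0 := hx' a' ha'
      have h3 : B x a = 0 := hA.isRefl _ _ (hx' a ha)
      simp [h1, h2, h3, hA.self_eq_zero]
    rw [card_fix_step hB hA hx, ih (k + 1) _ hS' (by rw [finrank_sup_span_singleton hx, hk])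
      (by omega)]
    have hfin : Finite V := Module.finite_of_finite F
    have e : Nat.card {y : V // y ∉ S ∧ ∀ s ∈ S, B s y = B s x} =
        Nat.card F ^ (k + 2 * (j + 1)) - Nat.card F ^ k := by
      have : {y : V | y ∉ S ∧ ∀ s ∈ S, B s y = B s x} =
          (B.orthogonal S : Set V) \ (S : Set V) := by
        ext y
        simp only [Set.mem_ofPred_eq, Set.mem_sdiff, SetLike.mem_coe,
          LinearMap.BilinForm.mem_orthogonal_iff]
        rw [and_comm]
        refine and_congr_left fun _ => forall₂_congr fun s hs => ?_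
        rw [show B s x = 0 from hx' s hs]
      change Set.ncard {y : V | y ∉ S ∧ ∀ s ∈ S, B s y = B s x} = _
      rw [this, Set.ncard_sdiff hS]
      change Nat.card (B.orthogonal S) - Nat.card S = _
      rw [card_submodule, card_submodule, hperp, hk]
    have e2 : Nat.card F ^ (k + 2 * (j + 1)) - Nat.card F ^ k =
        Nat.card F ^ k * (Nat.card F ^ (2 * (j + 1)) - 1) := by
      rw [pow_add, Nat.mul_sub, mul_one]
    have e3 : k * (k + 1) / 2 + 2 * k * (j + 1) + (j + 1) ^ 2 =
        ((k + 1) * (k + 1 + 1) / 2 + 2 * (k + 1) * j + j ^ 2) + k := by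
      have h2 : (k + 1) * (k + 1 + 1) = k * (k + 1) + (k + 1) * 2 := by ring
      rw [h2, Nat.add_mul_div_right _ _ (by norm_num)]
      ring
    rw [e, e2, e3, Finset.prod_range_succ, pow_add _ _ k]
    ring

/-- The order of a finite symplectic group. -/
theorem card_isom {B : LinearMap.BilinForm F V} (hB : B.Nondegenerate) (hA : B.IsAlt)
    (m : ℕ) (hV : finrank F V = 2 * m) :
    Nat.card (isom B) = Nat.card F ^ (m ^ 2) *
      ∏ i ∈ Finset.range m, (Nat.card F ^ (2 * (i + 1)) - 1) := by
  have := card_fix_isotropic hB hA m 0 ⊥ bot_le (finrank_bot F V) (by simpa using hV)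
  simpa [fix_bot] using this

theorem card_sp (l : Type*) [Fintype l] [DecidableEq l] (F : Type*) [Field F] [Finite F] :
    Nat.card (Matrix.symplecticGroup l F) = Nat.card F ^ (Fintype.card l ^ 2) *
      ∏ i ∈ Finset.range (Fintype.card l), (Nat.card F ^ (2 * (i + 1)) - 1) := by
  rw [Nat.card_congr (spEquiv l F).toEquiv]
  exact card_isom form_nondegenerate form_isAlt _ (by simp [two_mul])

omit [Finite F] in
theorem card_linearEquiv [Fintype F] (k : ℕ) (hV : finrank F V = k) :
    Nat.card (V ≃ₗ[F] V) = ∏ i : Fin k, (Fintype.card F ^ k - Fintype.card F ^ (i : ℕ)) := by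
  rw [← Matrix.card_GL_field]
  let b := Module.finBasisOfFinrankEq F V hV
  exact (Nat.card_congr ((Matrix.GeneralLinearGroup.toLin' b).trans
    (LinearMap.GeneralLinearGroup.generalLinearEquiv F V)).toEquiv).symm

omit [Finite F] [FiniteDimensional F V] in
theorem isom_restrict_eq_top {B : LinearMap.BilinForm F V} {S : Submodule F V}
    (hS : S ≤ B.orthogonal S) : isom (B.restrict S) = ⊤ := by
  rw [eq_top_iff]
  intro g _ u v
  have h : ∀ u v : S, B.restrict S u v = 0 := fun u v => hS v.2 u u.2
  rw [h, h]

end CL.Symp
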