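import Cfsg.Agent.Symp.Matrix

/-!
# The stabiliser of a non-degenerate subspace
-/

set_option autoImplicit false

namespace CL.Symp

open Module LinearMap

variable {F V : Type*} [Field F] [AddCommGroup V] [Module F V]

/-- The stabiliser of a subspace in the isometry group. -/
def stab (B : LinearMap.BilinForm F V) (W : Submodule F V) : Subgroup (isom B) where
  carrier := {g | ∀ v, v ∈ W ↔ (g : V ≃ₗ[F] V) v ∈ W}
  mul_mem' {a b} ha hb := fun v => (hb v).trans (ha _)
  one_mem' := fun _ => Iff.rfl
  inv_mem' {a} ha := fun v => by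
    have := ha ((a⁻¹ : isom B).1 v)
    rw [this]
    simp [LinearEquiv.coe_inv]

theorem mem_stab {B : LinearMap.BilinForm F V} {W : Submodule F V} {g : isom B} :
    g ∈ stab B W ↔ ∀ v, v ∈ W ↔ (g : V ≃ₗ[F] V) v ∈ W := Iff.rfl

theorem mem_stab_orthogonal {B : LinearMap.BilinForm F V} {W : Submodule F V} {g : isom B}
    (hg : g ∈ stab B W) : g ∈ stab B (B.orthogonal W) := by
  intro v
  constructor
  · intro hv w hw
    have h1 : (g : V ≃ₗ[F] V).symm w ∈ W := (hg _).2 (by simpa using hw)
    have := g.2 ((g : V ≃ₗ[F] V).symm w) v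
    simp only [LinearEquiv.apply_symm_apply] at this
    rw [this]
    exact hv _ h1
  · intro hv w hw
    rw [← g.2 w v]
    exact hv _ ((hg w).1 hw)

/-- Restriction of an isometry to a stabilised subspace. -/
def restrictStab (B : LinearMap.BilinForm F V) (W : Submodule F V) :
    stab B W →* isom (B.restrict W) where
  toFun g := ⟨{ toFun := fun w => ⟨g.1.1 w, (g.2 w).1 w.2⟩
                map_add' := fun x y => by ext; simp
                map_smul' := fun c x => by ext; simp
                invFun := fun w => ⟨g.1.1.symm w, (g.2 _).2 (by simp)⟩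
                left_inv := fun w => by ext; simp
                right_inv := fun w => by ext; simp }, fun u v => g.1.2 u v⟩
  map_one' := by ext; rfl
  map_mul' g h := by ext; rfl

@[simp] theorem restrictStab_apply (B : LinearMap.BilinForm F V) (W : Submodule F V)
    (g : stab B W) (w : W) : ((restrictStab B W g).1 w : V) = g.1.1 w := rfl

/-- The stabiliser of a subspace complementary to its orthogonal is the product of the two isometry groups. -/
theorem nonempty_stab_equiv_prod {B : LinearMap.BilinForm F V} (hR : B.IsRefl) {W : Submodule F V}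
    (hc : IsCompl W (B.orthogonal W)) :
    Nonempty (stab B W ≃* isom (B.restrict W) × isom (B.restrict (B.orthogonal W))) := by
  let φ : stab B W →* isom (B.restrict W) × isom (B.restrict (B.orthogonal W)) :=
    (restrictStab B W).prod ((restrictStab B (B.orthogonal W)).comp
      (Subgroup.inclusion fun g hg => mem_stab_orthogonal hg))
  have hdec : ∀ v : V, ∃ (a : W) (b : B.orthogonal W), v = a + b := fun v => by
    obtain ⟨a, ha, b, hb, e⟩ := Submodule.mem_sup.1 (hc.sup_eq_top.ge (Submodule.mem_top (x := v)))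
    exact ⟨⟨a, ha⟩, ⟨b, hb⟩, e.symm⟩
  refine ⟨MulEquiv.ofBijective φ ⟨?_, ?_⟩⟩
  · rw [injective_iff_map_eq_one]
    intro g hg
    have h1 : ∀ a : W, g.1.1 a = a := fun a =>
      congrArg (fun x : isom (B.restrict W) × isom (B.restrict (B.orthogonal W)) =>
        (x.1.1 a : V)) hg
    have h2 : ∀ b : B.orthogonal W, g.1.1 b = b := fun b =>
      congrArg (fun x : isom (B.restrict W) × isom (B.restrict (B.orthogonal W)) =>
        (x.2.1 b : V)) hg
    ext v
    obtain ⟨a, b, rfl⟩ := hdec v
    simp [h1, h2]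
  · rintro ⟨g₁, g₂⟩
    let e := Submodule.prodEquivOfIsCompl _ _ hc
    let g : V ≃ₗ[F] V := e.symm.trans ((g₁.1.prodCongr g₂.1).trans e)
    have hg : ∀ (a : W) (b : B.orthogonal W), g (a + b) = g₁.1 a + g₂.1 b := fun a b => by
      have : e.symm (a + b) = (a, b) := by
        rw [LinearEquiv.symm_apply_eq]; simp [e]
      simp [g, this, e]
    have hg1 : ∀ a : W, g a = g₁.1 a := fun a => by simpa using hg a 0
    have hg2 : ∀ b : B.orthogonal W, g b = g₂.1 b := fun b => by simpa using hg 0 b
    have o1 : ∀ (a : W) (b : B.orthogonal W), B a b = 0 := fun a b => b.2 a a.2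
    have o2 : ∀ (a : W) (b : B.orthogonal W), B b a = 0 := fun a b => hR _ _ (o1 a b)
    have hi : g ∈ isom B := by
      intro u v
      obtain ⟨a, b, rfl⟩ := hdec u
      obtain ⟨a', b', rfl⟩ := hdec v
      have e1 : B (g₁.1 a) (g₁.1 a') = B a a' := g₁.2 a a'
      have e2 : B (g₂.1 b) (g₂.1 b') = B b b' := g₂.2 b b'
      rw [hg, hg]
      simp [o1, o2, e1, e2]
    have hs : (⟨g, hi⟩ : isom B) ∈ stab B W := by
      intro v
      obtain ⟨a, b, rfl⟩ := hdec v
      change _ ↔ g _ ∈ W
      rw [hg, W.add_mem_iff_right a.2, W.add_mem_iff_right (g₁.1 a).2]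
      have : ∀ c : B.orthogonal W, (c : V) ∈ W ↔ c = 0 := fun c =>
        ⟨fun h => Subtype.ext (Submodule.disjoint_def.1 hc.disjoint _ h c.2),
          fun h => by simp [h]⟩
      simp [this]
    refine ⟨⟨⟨g, hi⟩, hs⟩, Prod.ext ?_ ?_⟩
    · ext a; exact hg1 a
    · ext b; exact hg2 b

theorem restrict_isAlt {B : LinearMap.BilinForm F V} (hA : B.IsAlt) (W : Submodule F V) :
    (B.restrict W).IsAlt := fun w => hA.self_eq_zero (w : V)

/-- The stabiliser in the symplectic matrix group corresponds to `stab`. -/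
theorem map_stabilizing {m : ℕ} (W : Submodule F (Fin m ⊕ Fin m → F)) :
    (Cfsg.stabilizing (Cfsg.spToMat m F) (W : Set (Fin m ⊕ Fin m → F))).map
      (spEquiv (Fin m) F : _ →* _) = stab (form (Fin m) F) W := by
  ext g
  refine Subgroup.mem_map_equiv.trans ?_
  change (∀ v, v ∈ W ↔ ((spEquiv (Fin m) F).symm g).1.mulVec v ∈ W) ↔ _
  simp only [spEquiv_symm_mulVec]
  rfl

/-- The stabiliser in the symplectic matrix group is isomorphic to `stab`. -/
noncomputable def stabilizingEquiv {m : ℕ} (W : Submodule F (Fin m ⊕ Fin m → F)) :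
    Cfsg.stabilizing (Cfsg.spToMat m F) (W : Set (Fin m ⊕ Fin m → F)) ≃* stab (form (Fin m) F) W :=
  ((spEquiv (Fin m) F).subgroupMap _).trans (MulEquiv.subgroupCongr (map_stabilizing W))

end CL.Symp
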