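import Cfsg.Agent.Symp.AutOdd
import Cfsg.Agent.GLn.Semilinear
import Cfsg.Agent.Lin.Card

/-!
# Permutations of the points normalising the projective symplectic group

They are the permutations induced by semilinear similarities; there are `|Aut F| * |Sp|` of them.
-/

set_option autoImplicit false

namespace CL.Symp

open Module LinearMap Matrix
open scoped LinearAlgebra.Projectivization MatrixGroups

section Abstract

variable {F V : Type*} [Field F] [AddCommGroup V] [Module F V]

/-- Perpendicular points. -/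
def Perp (B : LinearMap.BilinForm F V) (x y : ℙ F V) : Prop := B x.rep y.rep = 0

theorem perp_mk {B : LinearMap.BilinForm F V} {u v : V} (hu : u ≠ 0) (hv : v ≠ 0) :
    Perp B (.mk F u hu) (.mk F v hv) ↔ B u v = 0 := by
  obtain ⟨a, ha⟩ := Projectivization.exists_smul_eq_mk_rep F u hu
  obtain ⟨b, hb⟩ := Projectivization.exists_smul_eq_mk_rep F v hv
  simp [Perp, ← ha, ← hb, Units.smul_def]

theorem span_ne_eq_top {f : V →ₗ[F] F} (hf : f ≠ 0) : Submodule.span F {c | f c ≠ 0} = ⊤ := by
  obtain ⟨u, hu⟩ : ∃ u, f u ≠ 0 := by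
    by_contra hc
    push Not at hc
    exact hf (LinearMap.ext hc)
  rw [eq_top_iff]
  intro v _
  by_cases hv : f v = 0
  · rw [← add_sub_cancel_right v u]
    exact sub_mem (Submodule.subset_span (by simpa [hv] using hu)) (Submodule.subset_span hu)
  · exact Submodule.subset_span hv

/-- A linear map preserving orthogonality is a similarity. -/
theorem exists_mul_of_perp [FiniteDimensional F V] {B : LinearMap.BilinForm F V}
    (hB : B.Nondegenerate) (B' : LinearMap.BilinForm F V) (h : ∀ u v, B u v = 0 → B' u v = 0) :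
    ∃ c : F, ∀ u v, B' u v = c * B u v := by
  let L := LinearMap.BilinForm.symmCompOfNondegenerate B' B hB
  have hL : ∀ u v, B (L u) v = B' u v :=
    fun u v => LinearMap.BilinForm.symmCompOfNondegenerate_left_apply B' hB v u
  obtain ⟨c, hc⟩ := LinearMap.exists_eq_smul_id_of_forall_notLinearIndependent (f := L)
    (fun u hli => by
      have h1 : B' u ∈ Submodule.span F (Set.range fun _ : Unit => B u) :=
        mem_span_of_iInf_ker_le_ker (L := fun _ : Unit => B u) (K := B' u) (fun v hv => by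
          simp only [Submodule.mem_iInf, LinearMap.mem_ker] at hv ⊢
          exact h u v (hv ()))
      rw [Set.range_const, Submodule.mem_span_singleton] at h1
      obtain ⟨a, ha⟩ := h1
      have h2 : L u = a • u := by
        rw [← sub_eq_zero]
        refine hB.1 _ fun v => ?_
        simp [hL, ← ha]
      rw [LinearIndependent.pair_iff] at hli
      have := hli a (-1) (by simp [h2])
      simp at this)
  exact ⟨c, fun u v => by rw [← hL, hc]; simp⟩

variable [FiniteDimensional F V]

theorem perp_of_compat {B : LinearMap.BilinForm F V} [h : IsSymp B] (p : ℕ) [Fact p.Prime]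
    [CharP F p] {θ : MulAut (PIsom B)} {π : Equiv.Perm (ℙ F V)}
    (hc : ∀ (g : PIsom B) (x : ℙ F V), π (g • x) = θ g • π x) {x y : ℙ F V} (hxy : Perp B x y) :
    Perp B (π x) (π y) := by
  induction x using Projectivization.ind with | _ a ha =>
  induction y using Projectivization.ind with | _ b hb =>
  rw [perp_mk] at hxy
  by_contra hne
  set a' := (π (.mk F a ha)).rep
  set b' := (π (.mk F b hb)).rep
  have ha' : a' ≠ 0 := Projectivization.rep_nonzero _
  have hb' : b' ≠ 0 := Projectivization.rep_nonzero _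
  have ea : π (.mk F a ha) = .mk F a' ha' := (Projectivization.mk_rep _).symm
  have eb : π (.mk F b hb) = .mk F b' hb' := (Projectivization.mk_rep _).symm
  have hne' : B a' b' ≠ 0 := hne
  apply ptv_ne_bot B ha
  rw [eq_bot_iff]
  intro t ht
  obtain ⟨k, hk⟩ := ptv_isPGroup B p a ⟨t, ht⟩
  have hk' : θ t ^ p ^ k = 1 := by
    rw [← map_pow, show t ^ p ^ k = 1 from congrArg Subtype.val hk, map_one]
  rw [Subgroup.mem_bot, ← θ.map_eq_one_iff]
  refine eq_one_of_span_eq_top p hk' (span_ne_eq_top (f := B a') fun e => hne' (by simp [e]))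
    fun c hc' hc0 => ?_
  have hc'' : B a' c ≠ 0 := hc'
  obtain ⟨g, hg, e1, e2⟩ := exists_isom_fix h.nondeg h.alt (a := a') (x := (B a' c / B a' b') • b')
    (y := c) (not_mem_span_of_ne h.alt (by simp [hc'', hne'])) (not_mem_span_of_ne h.alt hc'')
    (by simp [hne'])
  obtain ⟨g₀, hg₀⟩ := θ.surjective (QuotientGroup.mk ⟨g, hg⟩)
  have f1 : g₀ • Projectivization.mk F a ha = .mk F a ha := by
    apply π.injective
    rw [hc, hg₀, ea]
    exact (isom_smul_mk_eq_iff ⟨g, hg⟩ ha').2 ⟨1, by simp [e1]⟩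
  have f2 : θ g₀ • π (.mk F b hb) = .mk F c hc0 := by
    rw [hg₀, eb, mk_smul, isom_smul_mk, eq_comm, Projectivization.mk_eq_mk_iff']
    exact ⟨B a' c / B a' b', by rw [← map_smul]; exact e2⟩
  have f3 := ptv_smul_eq hb (h.alt.isRefl _ _ hxy) (conj_mem_ptv ha f1 ht)
  rw [mul_smul, mul_smul, inv_smul_eq_iff] at f3
  rw [← f2, ← hc, ← hc, f3]

theorem perp_iff_of_mem_geomPerm {B : LinearMap.BilinForm F V} [IsSymp B] (p : ℕ) [Fact p.Prime]
    [CharP F p] {π : Equiv.Perm (ℙ F V)} (hπ : π ∈ AutGen.geomPerm (PIsom B) (ℙ F V))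
    (x y : ℙ F V) : Perp B (π x) (π y) ↔ Perp B x y := by
  obtain ⟨θ, h1⟩ := AutGen.mem_geomPerm.1 hπ
  obtain ⟨θ', h2⟩ := AutGen.mem_geomPerm.1 (inv_mem hπ)
  exact ⟨fun h => by simpa using perp_of_compat p h2 h, perp_of_compat p h1⟩

theorem le_sup_iff_perp {B : LinearMap.BilinForm F V} [h : IsSymp B] (x y z : ℙ F V) :
    z.submodule ≤ x.submodule ⊔ y.submodule ↔ ∀ w, Perp B x w → Perp B y w → Perp B z w := by
  induction x using Projectivization.ind with | _ a ha =>
  induction y using Projectivization.ind with | _ b hb =>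
  induction z using Projectivization.ind with | _ c hc =>
  simp only [Projectivization.submodule_mk, Submodule.span_singleton_le_iff_mem]
  constructor
  · intro hm w
    induction w using Projectivization.ind with | _ d hd =>
    simp only [perp_mk]
    intro h1 h2
    obtain ⟨_, hu, _, hv, rfl⟩ := Submodule.mem_sup.1 hm
    obtain ⟨s, rfl⟩ := Submodule.mem_span_singleton.1 hu
    obtain ⟨t, rfl⟩ := Submodule.mem_span_singleton.1 hv
    simp [h1, h2]
  · intro H
    by_contra hn
    obtain ⟨d, hd, h1⟩ := exists_orthogonal_ne h.nondeg h.alt hn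
    have hd0 : d ≠ 0 := by rintro rfl; simp at h1
    have := H (.mk F d hd0)
    simp only [perp_mk] at this
    exact h1 (this (hd a (Submodule.mem_sup_left (Submodule.mem_span_singleton_self a)))
      (hd b (Submodule.mem_sup_right (Submodule.mem_span_singleton_self b))))

end Abstract

variable {l : Type} [Fintype l] [DecidableEq l] {F : Type*} [Field F]

/-- The group of symplectic similarities. -/
def gsp (l : Type) [Fintype l] [DecidableEq l] (F : Type*) [Field F] : Subgroup (GL (l ⊕ l) F) where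
  carrier := {A | ∃ c : F, c ≠ 0 ∧ ∀ u v, form l F (A.1 *ᵥ u) (A.1 *ᵥ v) = c * form l F u v}
  mul_mem' := by
    rintro A B ⟨c, hc0, hc⟩ ⟨d, hd0, hd⟩
    exact ⟨c * d, mul_ne_zero hc0 hd0, fun u v => by
      rw [GLn.gl_mul_mulVec, GLn.gl_mul_mulVec, hc, hd, mul_assoc]⟩
  one_mem' := ⟨1, one_ne_zero, fun u v => by simp⟩
  inv_mem' := by
    rintro A ⟨c, hc0, hc⟩
    exact ⟨c⁻¹, inv_ne_zero hc0, fun u v => by
      rw [eq_inv_mul_iff_mul_eq₀ hc0, ← hc, GLn.gl_mulVec_inv_mulVec, GLn.gl_mulVec_inv_mulVec]⟩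

theorem form_fieldMap (φ : F ≃+* F) (u v : l ⊕ l → F) :
    form l F (GLn.fieldMap _ φ u) (GLn.fieldMap _ φ v) = φ (form l F u v) := by
  simp [form_eq_sum, GLn.fieldMap_apply]

/-- A symplectic matrix as an invertible matrix. -/
def spToGL (l : Type) [Fintype l] [DecidableEq l] (F : Type*) [Field F] :
    Matrix.symplecticGroup l F →* GL (l ⊕ l) F := (Matrix.symplecticGroup l F).subtype.toHomUnits

/-- The diagonal similarity with multiplier `c`. -/
def diagSim (l : Type) [Fintype l] [DecidableEq l] (c : Fˣ) : GL (l ⊕ l) F :=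
  ⟨Matrix.diagonal (Sum.elim (fun _ => c) (fun _ => 1)),
    Matrix.diagonal (Sum.elim (fun _ => (c⁻¹ : Fˣ)) (fun _ => 1)),
    by rw [Matrix.diagonal_mul_diagonal, ← Matrix.diagonal_one]; congr 1; ext (i | i) <;> simp,
    by rw [Matrix.diagonal_mul_diagonal, ← Matrix.diagonal_one]; congr 1; ext (i | i) <;> simp⟩

theorem form_diagSim (c : Fˣ) (u v : l ⊕ l → F) :
    form l F ((diagSim l c).1 *ᵥ u) ((diagSim l c).1 *ᵥ v) = c * form l F u v := by
  simp only [form_eq_sum, diagSim, Matrix.mulVec_diagonal, Sum.elim_inl, Sum.elim_inr,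
    Finset.mul_sum]
  exact Finset.sum_congr rfl fun i _ => by ring

theorem card_gsp [Nonempty l] :
    Nat.card (gsp l F) = Nat.card Fˣ * Nat.card (Matrix.symplecticGroup l F) := by
  rw [← Nat.card_prod]
  symm
  have key : ∀ (c : Fˣ) (A : Matrix.symplecticGroup l F) (u v : l ⊕ l → F),
      form l F ((spToGL l F A * diagSim l c).1 *ᵥ u) ((spToGL l F A * diagSim l c).1 *ᵥ v) =
        c * form l F u v := fun c A u v => by
    rw [GLn.gl_mul_mulVec, GLn.gl_mul_mulVec, ← form_diagSim]
    exact sp_form A _ _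
  refine Nat.card_eq_of_bijective
    (fun x => ⟨spToGL l F x.2 * diagSim l x.1, x.1, x.1.ne_zero, key _ _⟩) ⟨?_, ?_⟩
  · rintro ⟨c, A⟩ ⟨d, B⟩ e
    have e' : spToGL l F A * diagSim l c = spToGL l F B * diagSim l d := congrArg Subtype.val e
    obtain ⟨i⟩ := ‹Nonempty l›
    have h1 := key c A (Pi.single (Sum.inr i) 1) (Pi.single (Sum.inl i) 1)
    rw [e', key, form_single_inr] at h1
    obtain rfl : c = d := Units.ext (by simpa using h1.symm)
    have h2 := mul_right_cancel e'
    exact Prod.ext rfl (Subtype.ext (congrArg Units.val h2))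
  · rintro ⟨A, c, hc0, hc⟩
    refine ⟨(Units.mk0 c hc0, ⟨(A * (diagSim l (Units.mk0 c hc0))⁻¹).1, mem_sp_iff.2 fun u v => ?_⟩),
      Subtype.ext ?_⟩
    · rw [GLn.gl_mul_mulVec, GLn.gl_mul_mulVec, hc]
      have := form_diagSim (Units.mk0 c hc0) ((diagSim l (Units.mk0 c hc0))⁻¹.1 *ᵥ u)
        ((diagSim l (Units.mk0 c hc0))⁻¹.1 *ᵥ v)
      rw [GLn.gl_mulVec_inv_mulVec, GLn.gl_mulVec_inv_mulVec] at this
      exact this.symm
    · rw [← eq_mul_inv_iff_mul_eq]
      exact Units.ext rfl

theorem card_map_gsp [Nonempty l] [Finite F] :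
    Nat.card ((gsp l F).map ProjGenLinGroup.mk) = Nat.card (Matrix.symplecticGroup l F) := by
  have h1 : gsp l F = ((gsp l F).map ProjGenLinGroup.mk).comap ProjGenLinGroup.mk := by
    rw [Subgroup.comap_map_eq_self]
    rw [ProjGenLinGroup.ker_mk, GeneralLinearGroup.center_eq_range_scalar]
    rintro _ ⟨u, rfl⟩
    exact ⟨u * u, by simp, fun a b => by
      simp [GeneralLinearGroup.coe_scalar, Matrix.scalar_apply, Matrix.diagonal_const_mulVec,
        mul_assoc]⟩
  have h2 := Nat.card_congr (QuotientGroup.preimageMkEquivSubgroupProdSet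
    (Subgroup.center (GL (l ⊕ l) F)) ((gsp l F).map ProjGenLinGroup.mk : Set PGL(l ⊕ l, F)))
  rw [Nat.card_prod, Lin.card_center_GL] at h2
  have h3 : Nat.card (gsp l F) = Nat.card Fˣ * Nat.card ((gsp l F).map ProjGenLinGroup.mk) := by
    conv_lhs => rw [h1]
    exact h2
  rw [card_gsp] at h3
  exact (Nat.eq_of_mul_eq_mul_left Nat.card_pos h3).symm

theorem mem_geomPerm_iff [Finite F] (p : ℕ) [Fact p.Prime] [CharP F p] (h2 : 2 ≤ Fintype.card l)
    (π : Equiv.Perm (ℙ F (l ⊕ l → F))) :
    π ∈ AutGen.geomPerm (PIsom (form l F)) (ℙ F (l ⊕ l → F)) ↔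
      ∃ φ : F ≃+* F, ∃ g ∈ (gsp l F).map ProjGenLinGroup.mk, π = GLn.semiPerm φ g := by
  constructor
  · intro hπ
    obtain ⟨φ, A, e⟩ := GLn.exists_semiPerm_of_collinear (by simp; omega) π (fun x y z => by
      rw [le_sup_iff_perp (B := form l F), le_sup_iff_perp (B := form l F), π.surjective.forall
        (p := fun w => Perp _ (π x) w → Perp _ (π y) w → Perp _ (π z) w)]
      simp only [perp_iff_of_mem_geomPerm p hπ])
    refine ⟨φ, _, ⟨A, ?_, rfl⟩, e⟩
    obtain ⟨c, hc⟩ := exists_mul_of_perp form_nondegenerate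
      ((form l F).compl₁₂ (Matrix.mulVecLin A.1) (Matrix.mulVecLin A.1)) (fun u v huv => by
        by_cases hu : u = 0
        · simp [hu]
        by_cases hv : v = 0
        · simp [hv]
        have hu' := GLn.fieldMap_ne_zero φ.symm hu
        have hv' := GLn.fieldMap_ne_zero φ.symm hv
        have := (perp_iff_of_mem_geomPerm p hπ (.mk F _ hu') (.mk F _ hv')).2
          (by rw [perp_mk, form_fieldMap, huv, map_zero])
        rw [e, GLn.semiPerm_mk, GLn.semiPerm_mk, perp_mk, GLn.fieldMap_apply_symm,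
          GLn.fieldMap_apply_symm] at this
        exact this)
    refine ⟨c, ?_, hc⟩
    rintro rfl
    obtain ⟨i⟩ : Nonempty l := Fintype.card_pos_iff.1 (by omega)
    have := hc (A⁻¹.1 *ᵥ Pi.single (Sum.inr i) 1) (A⁻¹.1 *ᵥ Pi.single (Sum.inl i) 1)
    simp only [LinearMap.compl₁₂_apply, Matrix.mulVecLin_apply, GLn.gl_mulVec_inv_mulVec,
      form_single_inr] at this
    simp at this
  · rintro ⟨φ, _, ⟨A, hA, rfl⟩, rfl⟩
    have : Finite ((l ⊕ l → F) ≃ₗ[F] (l ⊕ l → F)) := Finite.of_injective _ DFunLike.coe_injective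
    refine AutGen.mem_geomPerm_of_forall fun g => ?_
    induction g using QuotientGroup.induction_on with | _ g =>
    obtain ⟨S, rfl⟩ := (spEquiv l F).surjective g
    obtain ⟨c, hc0, hc⟩ := hA
    have hS := SymplecticGroup.map_mem S.2 φ
    refine ⟨QuotientGroup.mk (spEquiv l F ⟨A.1 * S.1.map φ * A⁻¹.1, mem_sp_iff.2 fun u v => ?_⟩),
      fun x => ?_⟩
    · simp only [← Matrix.mulVec_mulVec]
      rw [hc, mem_sp_iff.1 hS, ← hc, GLn.gl_mulVec_inv_mulVec, GLn.gl_mulVec_inv_mulVec]
    · induction x using Projectivization.ind with | _ v hv =>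
      simp only [mk_smul, isom_smul_mk, GLn.semiPerm_mk, spEquiv_apply, GLn.fieldMap_mulVec,
        ← Matrix.mulVec_mulVec, GLn.gl_inv_mulVec_mulVec]

theorem card_geomAut [Finite F] (p : ℕ) [Fact p.Prime] [CharP F p] (h2 : 2 ≤ Fintype.card l) :
    Nat.card (AutGen.geomAut (PIsom (form l F)) (ℙ F (l ⊕ l → F))) =
      Nat.card (F ≃+* F) * Nat.card (Matrix.symplecticGroup l F) := by
  have : Nonempty l := Fintype.card_pos_iff.1 (by omega)
  have : Nontrivial (l ⊕ l) := Fintype.one_lt_card_iff_nontrivial.1 (by simp; omega)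
  rw [AutGen.card_geomAut_eq fun x y h => eq_of_stabilizer_le h.le, ← card_map_gsp]
  exact GLn.card_of_semiPerm _ _ (mem_geomPerm_iff p h2)

end CL.Symp
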