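import Cfsg.Agent.Symp.AutPoint

/-!
# The graph endomorphism of `Sp_4` in characteristic two

The action on `2 × 2` minors gives a homomorphism `Sp_4(F) → Sp_4(F)` sending stabilisers of totally isotropic
lines into point stabilisers.
-/

set_option autoImplicit false

namespace CL.Symp

open Module LinearMap Matrix
open scoped LinearAlgebra.Projectivization

variable {F : Type*} [Field F]

/-- First index of the pair attached to a coordinate. -/
def wr : Fin 2 ⊕ Fin 2 → Fin 2 ⊕ Fin 2 :=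
  Sum.elim ![Sum.inl 0, Sum.inl 0] ![Sum.inr 0, Sum.inl 1]

/-- Second index of the pair attached to a coordinate. -/
def ws : Fin 2 ⊕ Fin 2 → Fin 2 ⊕ Fin 2 :=
  Sum.elim ![Sum.inl 1, Sum.inr 1] ![Sum.inr 1, Sum.inr 0]

/-- Four of the six Plücker coordinates of a pair of vectors. -/
def wedge (a b : Fin 2 ⊕ Fin 2 → F) : Fin 2 ⊕ Fin 2 → F :=
  fun i => a (wr i) * b (ws i) - a (ws i) * b (wr i)

theorem form_wr_ws (j : Fin 2 ⊕ Fin 2) :
    form (Fin 2) F (Pi.single (wr j) 1) (Pi.single (ws j) 1) = 0 := by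
  rcases j with j | j <;> fin_cases j <;> simp [wr, ws, form_single_inl, form_single_inr]

theorem wedge_single (j : Fin 2 ⊕ Fin 2) :
    wedge (Pi.single (wr j) (1 : F)) (Pi.single (ws j) 1) = Pi.single j 1 := by
  ext i
  rcases j with j | j <;> fin_cases j <;> rcases i with i | i <;> fin_cases i <;>
    simp [wedge, wr, ws]

theorem wedge_comb (a b : Fin 2 ⊕ Fin 2 → F) (x y z w : F) :
    wedge (x • a + y • b) (z • a + w • b) = (x * w - y * z) • wedge a b := by
  ext i
  simp only [wedge, Pi.add_apply, Pi.smul_apply, smul_eq_mul]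
  ring

theorem wedge_dot (h2 : (2 : F) = 0) {x y a b : Fin 2 ⊕ Fin 2 → F} (h : form (Fin 2) F x y = 0)
    (h' : form (Fin 2) F a b = 0) :
    wedge x y ⬝ᵥ wedge a b = (x ⬝ᵥ a) * (y ⬝ᵥ b) - (y ⬝ᵥ a) * (x ⬝ᵥ b) := by
  simp only [form_eq_sum, Fin.sum_univ_two] at h h'
  simp only [dotProduct, Fintype.sum_sum_type, Fin.sum_univ_two, wedge, wr, ws, Sum.elim_inl,
    Sum.elim_inr, Matrix.cons_val_zero, Matrix.cons_val_one]
  linear_combination
    (a (Sum.inl 0) * b (Sum.inr 0) - a (Sum.inr 0) * b (Sum.inl 0)) * h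
    + (x (Sum.inl 1) * y (Sum.inr 1) - x (Sum.inr 1) * y (Sum.inl 1)) * h'
    + (x (Sum.inl 1) * y (Sum.inr 1) - x (Sum.inr 1) * y (Sum.inl 1)) *
      (a (Sum.inl 0) * b (Sum.inr 0) - a (Sum.inr 0) * b (Sum.inl 0)) * h2

theorem form_wedge [CharP F 2] {a b c d : Fin 2 ⊕ Fin 2 → F} (h : form (Fin 2) F a b = 0)
    (h' : form (Fin 2) F c d = 0) :
    form (Fin 2) F (wedge a b) (wedge c d) =
      form (Fin 2) F a c * form (Fin 2) F b d + form (Fin 2) F a d * form (Fin 2) F b c := by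
  simp only [form_eq_sum, Fin.sum_univ_two] at h h' ⊢
  simp only [wedge, wr, ws, Sum.elim_inl, Sum.elim_inr, Matrix.cons_val_zero, Matrix.cons_val_one]
  grind

/-- The matrix of `2 × 2` minors. -/
def graphMat (A : Matrix (Fin 2 ⊕ Fin 2) (Fin 2 ⊕ Fin 2) F) :
    Matrix (Fin 2 ⊕ Fin 2) (Fin 2 ⊕ Fin 2) F :=
  Matrix.of fun i => wedge (A (wr i)) (A (ws i))

theorem graphMat_mulVec (h2 : (2 : F) = 0) {A : Matrix (Fin 2 ⊕ Fin 2) (Fin 2 ⊕ Fin 2) F}
    (hA : A ∈ Matrix.symplecticGroup (Fin 2) F) {a b : Fin 2 ⊕ Fin 2 → F}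
    (h : form (Fin 2) F a b = 0) : graphMat A *ᵥ wedge a b = wedge (A *ᵥ a) (A *ᵥ b) := by
  ext i
  have h1 := mem_sp_iff.1 (SymplecticGroup.transpose_mem hA) (Pi.single (wr i) 1)
    (Pi.single (ws i) 1)
  rw [form_wr_ws, Matrix.mulVec_single_one, Matrix.mulVec_single_one] at h1
  exact wedge_dot h2 h1 h

theorem mem_sp_of_basis {l : Type*} [Fintype l] [DecidableEq l] {A : Matrix (l ⊕ l) (l ⊕ l) F}
    (h : ∀ i j, form l F (A *ᵥ Pi.single i 1) (A *ᵥ Pi.single j 1) =
      form l F (Pi.single i 1) (Pi.single j 1)) : A ∈ Matrix.symplecticGroup l F := by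
  have : (form l F).compl₁₂ (Matrix.mulVecLin A) (Matrix.mulVecLin A) = form l F := by
    apply (Pi.basisFun F _).ext; intro i; apply (Pi.basisFun F _).ext; intro j
    simpa only [LinearMap.compl₁₂_apply, Matrix.mulVecLin_apply, Pi.basisFun_apply] using h i j
  exact mem_sp_iff.2 fun u v => congr($this u v)

variable [CharP F 2]

theorem graphMat_mem {A : Matrix (Fin 2 ⊕ Fin 2) (Fin 2 ⊕ Fin 2) F}
    (hA : A ∈ Matrix.symplecticGroup (Fin 2) F) :
    graphMat A ∈ Matrix.symplecticGroup (Fin 2) F := by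
  have h2 : (2 : F) = 0 := CharP.cast_eq_zero F 2
  have h := mem_sp_iff.1 hA
  refine mem_sp_of_basis fun i j => ?_
  rw [← wedge_single i, ← wedge_single j, graphMat_mulVec h2 hA (form_wr_ws i),
    graphMat_mulVec h2 hA (form_wr_ws j), form_wedge (form_wr_ws i) (form_wr_ws j),
    form_wedge (by rw [h, form_wr_ws]) (by rw [h, form_wr_ws]), h, h, h, h]

variable (F) in
/-- The graph endomorphism of `Sp_4(F)` in characteristic two. -/
def graphSp : Matrix.symplecticGroup (Fin 2) F →* Matrix.symplecticGroup (Fin 2) F :=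
  MonoidHom.mk' (fun A => ⟨graphMat A.1, graphMat_mem A.2⟩) fun A B => by
    have h2 : (2 : F) = 0 := CharP.cast_eq_zero F 2
    apply Subtype.ext
    apply Matrix.toLin'.injective
    apply (Pi.basisFun F _).ext
    intro j
    simp only [Matrix.toLin'_apply, Pi.basisFun_apply, Submonoid.coe_mul]
    rw [← wedge_single j, ← Matrix.mulVec_mulVec, graphMat_mulVec h2 B.2 (form_wr_ws j),
      graphMat_mulVec h2 A.2 (by rw [sp_form, form_wr_ws]),
      graphMat_mulVec h2 (mul_mem A.2 B.2) (form_wr_ws j), Matrix.mulVec_mulVec,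
      Matrix.mulVec_mulVec]

variable (F) in
/-- The graph endomorphism on the isometry group. -/
noncomputable def graphIsom : isom (form (Fin 2) F) →* isom (form (Fin 2) F) :=
  ((spEquiv (Fin 2) F).toMonoidHom.comp (graphSp F)).comp (spEquiv (Fin 2) F).symm.toMonoidHom

theorem graphIsom_wedge (g : isom (form (Fin 2) F)) {a b : Fin 2 ⊕ Fin 2 → F}
    (h : form (Fin 2) F a b = 0) : (graphIsom F g).1 (wedge a b) = wedge (g.1 a) (g.1 b) := by
  rw [← spEquiv_symm_mulVec g a, ← spEquiv_symm_mulVec g b,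
    ← graphMat_mulVec (CharP.cast_eq_zero F 2) ((spEquiv (Fin 2) F).symm g).2 h]
  rfl

theorem eq_one_of_mem_center_two {V : Type*} [AddCommGroup V] [Module F V]
    {B : LinearMap.BilinForm F V} [IsSymp B] {g : isom B} (hg : g ∈ Subgroup.center (isom B)) :
    g = 1 := by
  rcases mem_center_iff_eq.1 hg with rfl | rfl
  · rfl
  · ext v
    have h2 : (2 : F) • v = 0 := by rw [show (2 : F) = 0 from CharP.cast_eq_zero F 2, zero_smul]
    simp only [negIsom_apply, OneMemClass.coe_one, LinearEquiv.coe_one, id_eq]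
    rw [neg_eq_iff_add_eq_zero, ← two_smul F v, h2]

variable (F) in
/-- The graph endomorphism on the projective group. -/
noncomputable def graphP : PIsom (form (Fin 2) F) →* PIsom (form (Fin 2) F) :=
  QuotientGroup.map _ _ (graphIsom F) fun g hg => by
    rw [eq_one_of_mem_center_two hg]; exact one_mem _

theorem graphP_injective [IsSimpleGroup (PIsom (form (Fin 2) F))] :
    Function.Injective (graphP F) := by
  rw [← MonoidHom.ker_eq_bot_iff]
  refine (Subgroup.Normal.eq_bot_or_eq_top inferInstance).resolve_right fun h => ?_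
  have h1 : graphP F (QuotientGroup.mk (spEquiv (Fin 2) F (SymplecticGroup.symJ (Fin 2) F))) = 1 :=
    MonoidHom.mem_ker.1 (h ▸ Subgroup.mem_top _)
  have h2 := eq_one_of_mem_center_two ((QuotientGroup.eq_one_iff _).1 h1)
  have h3 := graphIsom_wedge (spEquiv (Fin 2) F (SymplecticGroup.symJ (Fin 2) F))
    (form_wr_ws (Sum.inl 0))
  rw [h2] at h3
  have h4 := congrFun h3 (Sum.inl 0)
  simp [wedge, wr, ws, Matrix.J] at h4

theorem exists_graphP_smul_eq {W : Submodule F (Fin 2 ⊕ Fin 2 → F)} (h2 : finrank F W = 2)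
    (hW : W ≤ (form (Fin 2) F).orthogonal W) :
    ∃ y : ℙ F (Fin 2 ⊕ Fin 2 → F), ∀ g ∈ pstab (form (Fin 2) F) W, graphP F g • y = y := by
  let b := Module.finBasisOfFinrankEq F W h2
  have hb : LinearIndependent F fun i => (b i : Fin 2 ⊕ Fin 2 → F) :=
    b.linearIndependent.map' W.subtype W.ker_subtype
  have he : LinearIndependent F fun i : Fin 2 =>
      (Pi.single (Sum.inl i) 1 : Fin 2 ⊕ Fin 2 → F) := by
    have := (Pi.basisFun F (Fin 2 ⊕ Fin 2)).linearIndependent.comp Sum.inl Sum.inl_injective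
    simpa only [Function.comp_def, Pi.basisFun_apply] using this
  have h0 : ∀ u v : W, form (Fin 2) F u v = 0 := fun u v => hW v.2 u u.2
  obtain ⟨t, ht, e⟩ := witt_family form_nondegenerate form_isAlt he hb
    (fun i j => by simp [h0, form_single_inl])
  have hne : wedge (b 0 : Fin 2 ⊕ Fin 2 → F) (b 1) ≠ 0 := by
    have := graphIsom_wedge ⟨t, ht⟩ (form_wr_ws (Sum.inl 0))
    rw [wedge_single] at this
    rw [← e 0, ← e 1]
    change wedge (t (Pi.single (wr (Sum.inl 0)) 1)) (t (Pi.single (ws (Sum.inl 0)) 1)) ≠ 0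
    rw [← this]
    simp
  refine ⟨.mk F _ hne, ?_⟩
  rintro _ ⟨g, hg, rfl⟩
  have key : ∀ u : W, ∃ x y : F, g.1 u = x • (b 0 : Fin 2 ⊕ Fin 2 → F) + y • b 1 := fun u => by
    have := b.sum_repr ⟨g.1 u, (hg u).1 u.2⟩
    rw [Fin.sum_univ_two] at this
    exact ⟨_, _, (congrArg Subtype.val this).symm⟩
  obtain ⟨x, y, e1⟩ := key (b 0)
  obtain ⟨z, w, e2⟩ := key (b 1)
  refine (isom_smul_mk_eq_iff (graphIsom F g) hne).2 ⟨x * w - y * z, ?_⟩
  rw [graphIsom_wedge g (h0 _ _), e1, e2, wedge_comb]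

/-- In `PSp_4(2^f)` the automorphisms permuting the point stabilisers have index two. -/
theorem index_geomAut_four [Finite F] [IsSimpleGroup (PIsom (form (Fin 2) F))] :
    (AutGen.geomAut (PIsom (form (Fin 2) F)) (ℙ F (Fin 2 ⊕ Fin 2 → F))).index = 2 := by
  have : Finite ((Fin 2 ⊕ Fin 2 → F) ≃ₗ[F] (Fin 2 ⊕ Fin 2 → F)) :=
    Finite.of_injective _ DFunLike.coe_injective
  let ψ : MulAut (PIsom (form (Fin 2) F)) :=
    MulEquiv.ofBijective (graphP F) (Finite.injective_iff_bijective.1 graphP_injective)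
  have hψ : ψ ∉ AutGen.geomAut (PIsom (form (Fin 2) F)) (ℙ F (Fin 2 ⊕ Fin 2 → F)) := by
    intro h
    obtain ⟨π, hπ⟩ := AutGen.mem_geomAut.1 h
    let e : Fin 2 → (Fin 2 ⊕ Fin 2 → F) := fun i => Pi.single (Sum.inl i) 1
    have he : LinearIndependent F e := by
      have := (Pi.basisFun F (Fin 2 ⊕ Fin 2)).linearIndependent.comp Sum.inl Sum.inl_injective
      simpa only [Function.comp_def, Pi.basisFun_apply] using this
    have h2 : finrank F (Submodule.span F (Set.range e)) = 2 := by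
      rw [finrank_span_eq_card he]; simp
    have hW : Submodule.span F (Set.range e) ≤
        (form (Fin 2) F).orthogonal (Submodule.span F (Set.range e)) := by
      intro u hu v hv
      obtain ⟨c, rfl⟩ := (Submodule.mem_span_range_iff_exists_fun F).1 hu
      obtain ⟨d, rfl⟩ := (Submodule.mem_span_range_iff_exists_fun F).1 hv
      simp [e, form_single_inl]
    obtain ⟨y, hy⟩ := exists_graphP_smul_eq h2 hW
    refine not_pstab_le_stabilizer hW h2.ge (π.symm y) fun g hg => ?_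
    apply π.injective
    rw [hπ, Equiv.apply_symm_apply]
    exact hy g hg
  rw [Subgroup.index_eq_two_iff_exists_notMem_and']
  refine ⟨ψ, hψ, fun θ => ?_⟩
  let x : ℙ F (Fin 2 ⊕ Fin 2 → F) := .mk F (Pi.single (Sum.inl 0) 1) (by simp)
  rcases mem_geomAut_or 2 θ x with h | ⟨-, W, h2, hW, e⟩
  · exact Or.inr h
  · left
    obtain ⟨y, hy⟩ := exists_graphP_smul_eq h2 hW
    exact AutGen.mem_geomAut_of_le (x := x) (y := y) fun g hg => hy _ (e ▸ ⟨g, hg, rfl⟩)

end CL.Symp
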