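import Cfsg.Agent.Symp.AutPoint

/-!
# Odd characteristic: point stabilisers and Lagrangian stabilisers are not exchanged

The unipotent radical of a point stabiliser is non-abelian, every normal `p`-subgroup of the stabiliser of a
Lagrangian subspace is abelian.
-/

set_option autoImplicit false

namespace CL.Symp

open Module LinearMap
open scoped LinearAlgebra.Projectivization

variable {F V : Type*} [Field F] [AddCommGroup V] [Module F V]

/-- The unipotent radical of the stabiliser of the vector `v`. -/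
def heis (B : LinearMap.BilinForm F V) (v : V) : Subgroup (isom B) where
  carrier := {A | A.1 v = v ∧ ∀ x, B v x = 0 → ∃ c : F, A.1 x = x + c • v}
  mul_mem' {a b} ha hb := by
    refine ⟨by simp [LinearEquiv.mul_apply, ha.1, hb.1], fun x hx => ?_⟩
    obtain ⟨c, hc⟩ := hb.2 x hx
    obtain ⟨d, hd⟩ := ha.2 x hx
    exact ⟨d + c, by simp [LinearEquiv.mul_apply, hc, hd, ha.1, add_smul, add_assoc]⟩
  one_mem' := ⟨rfl, fun x _ => ⟨0, by simp⟩⟩
  inv_mem' {a} ha := by
    have h1 : ∀ x, (a⁻¹ : isom B).1 (a.1 x) = x := fun x => by simp [LinearEquiv.coe_inv]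
    have h2 : (a⁻¹ : isom B).1 v = v := by
      have := h1 v
      rwa [ha.1] at this
    refine ⟨h2, fun x hx => ?_⟩
    obtain ⟨c, hc⟩ := ha.2 x hx
    have := h1 x
    rw [hc, map_add, map_smul, h2] at this
    exact ⟨-c, by rw [neg_smul, ← sub_eq_add_neg, eq_sub_iff_add_eq, this]⟩

theorem heis_pow_char {B : LinearMap.BilinForm F V} (p : ℕ) [Fact p.Prime] [CharP F p]
    (hp : p ≠ 2) {v : V} (hv : v ≠ 0) {A : isom B} (hA : A ∈ heis B v) : A ^ p = 1 := by
  have : Nontrivial V := ⟨⟨v, 0, hv⟩⟩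
  have : CharP (Module.End F V) p := charP_of_injective_algebraMap
    (FaithfulSMul.algebraMap_injective F (Module.End F V)) p
  set N : Module.End F V := (A.1 : V →ₗ[F] V) - 1 with hN
  have h3 : N ^ 3 = 0 := by
    ext x
    have e1 : B v (N x) = 0 := by
      have := A.2 v x
      rw [hA.1] at this
      simp [hN, this]
    obtain ⟨c, hc⟩ := hA.2 _ e1
    have e2 : N (N x) = c • v := by
      change A.1 (N x) - N x = _
      rw [hc, add_sub_cancel_left]
    have e3 : N v = 0 := by simp [hN, hA.1]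
    simp [pow_succ, e2, e3]
  have h3p : 3 ≤ p := by
    have := (Fact.out : p.Prime).two_le
    omega
  have h4 : ((A.1 : V →ₗ[F] V) : Module.End F V) ^ p = 1 := by
    rw [show ((A.1 : V →ₗ[F] V) : Module.End F V) = 1 + N by simp [hN],
      add_pow_char_of_commute p (Commute.one_left N), one_pow, pow_eq_zero_of_le h3p h3, add_zero]
  ext x
  have := congr($h4 x)
  simpa [LinearEquiv.coe_pow, Module.End.pow_apply] using this

theorem conj_mem_heis {B : LinearMap.BilinForm F V} {v : V} {g : isom B} {c : F}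
    (hg : g.1 v = c • v) (hc : c ≠ 0) {A : isom B} (hA : A ∈ heis B v) :
    g⁻¹ * A * g ∈ heis B v := by
  have h1 : ∀ x, (g⁻¹ : isom B).1 (g.1 x) = x := fun x => by simp [LinearEquiv.coe_inv]
  have h2 : (g⁻¹ : isom B).1 v = c⁻¹ • v := by
    have := h1 v
    rw [hg, map_smul] at this
    rw [eq_inv_smul_iff₀ hc, this]
  constructor
  · change (g⁻¹ : isom B).1 (A.1 (g.1 v)) = v
    rw [hg, map_smul, hA.1, ← hg, h1]
  · intro x hx
    have : B v (g.1 x) = 0 := by
      have := g.2 v x
      rw [hg, hx] at this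
      simpa [hc] using this
    obtain ⟨d, hd⟩ := hA.2 _ this
    refine ⟨d * c⁻¹, ?_⟩
    change (g⁻¹ : isom B).1 (A.1 (g.1 x)) = _
    rw [hd, map_add, h1, map_smul, h2, smul_smul]

/-- The map `x ↦ x + B(x, v) u + B(x, u) v`. -/
def sieg (B : LinearMap.BilinForm F V) (v u : V) : V →ₗ[F] V :=
  LinearMap.id + (B.flip v).smulRight u + (B.flip u).smulRight v

theorem sieg_apply (B : LinearMap.BilinForm F V) (v u x : V) :
    sieg B v u x = x + B x v • u + B x u • v := rfl

theorem sieg_sieg {B : LinearMap.BilinForm F V} (hA : B.IsAlt) {v u w : V} (hu : B v u = 0)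
    (hw : B v w = 0) (x : V) : sieg B v u (sieg B v w x) =
      x + B x v • (u + w) + (B x u + B x w + B x v * B w u) • v := by
  have hw' : B w v = 0 := hA.isRefl _ _ hw
  simp only [sieg_apply, map_add, map_smul, hu, hw',
    hA.self_eq_zero]
  module

/-- The isometry `x ↦ x + B(x, v) u + B(x, u) v` for `u` orthogonal to `v`. -/
def isieg {B : LinearMap.BilinForm F V} (hA : B.IsAlt) {v u : V} (hu : B v u = 0) : isom B :=
  ⟨LinearEquiv.ofLinearMap (sieg B v u) (sieg B v (-u))
    (by ext x; simp [sieg_sieg hA hu (show B v (-u) = 0 by simp [hu]), hA.self_eq_zero])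
    (by ext x; simp [sieg_sieg hA (show B v (-u) = 0 by simp [hu]) hu, hA.self_eq_zero]),
    fun x y => by
      have hu' : B u v = 0 := hA.isRefl _ _ hu
      simp only [LinearEquiv.coe_ofLinearMap, sieg_apply, map_add, map_smul, LinearMap.add_apply,
        LinearMap.smul_apply, hu, hu', hA.self_eq_zero, smul_eq_mul]
      rw [alt_swap hA u y, alt_swap hA v y]
      ring⟩

theorem isieg_apply {B : LinearMap.BilinForm F V} (hA : B.IsAlt) {v u : V} (hu : B v u = 0)
    (x : V) : (isieg hA hu).1 x = sieg B v u x := rfl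

theorem isieg_mem_heis {B : LinearMap.BilinForm F V} (hA : B.IsAlt) {v u : V} (hu : B v u = 0) :
    isieg hA hu ∈ heis B v := by
  refine ⟨by simp [isieg_apply, sieg_apply, hu, hA.self_eq_zero], fun x hx => ⟨B x u, ?_⟩⟩
  simp [isieg_apply, sieg_apply, hA.isRefl _ _ hx]

variable [FiniteDimensional F V]

/-- In odd characteristic and dimension at least three the image of `heis` is not abelian. -/
theorem exists_not_commute_heis {B : LinearMap.BilinForm F V} [h : IsSymp B] (h2 : (2 : F) ≠ 0)
    (h3 : 3 ≤ finrank F V) {v : V} (hv : v ≠ 0) : ∃ a ∈ heis B v, ∃ b ∈ heis B v,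
      ¬ Commute (QuotientGroup.mk a : PIsom B) (QuotientGroup.mk b) := by
  obtain ⟨u, hu, w, hw, huw⟩ : ∃ u, B v u = 0 ∧ ∃ w, B v w = 0 ∧ B w u ≠ 0 := by
    by_contra hc
    push Not at hc
    have hm : ∀ x, x ∈ B.orthogonal (Submodule.span F {v}) → B v x = 0 := fun x hx =>
      hx v (Submodule.mem_span_singleton_self v)
    have h1 : B.orthogonal (Submodule.span F {v}) ≤
        B.orthogonal (B.orthogonal (Submodule.span F {v})) := fun u hu w hw =>
      hc u (hm u hu) w (hm w hw)
    rw [LinearMap.BilinForm.orthogonal_orthogonal h.nondeg h.alt.isRefl] at h1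
    have := Submodule.finrank_mono h1
    rw [LinearMap.BilinForm.finrank_orthogonal h.nondeg, finrank_span_singleton hv] at this
    omega
  refine ⟨_, isieg_mem_heis h.alt hu, _, isieg_mem_heis h.alt hw, fun hc => ?_⟩
  rw [commute_iff_eq, ← QuotientGroup.mk_mul, ← QuotientGroup.mk_mul, QuotientGroup.eq,
    mem_center_iff_eq] at hc
  rcases hc with hc | hc
  · rw [inv_mul_eq_one] at hc
    obtain ⟨x, hx⟩ := exists_form_ne_zero B hv
    have := congrArg (fun g : isom B => g.1 x) hc
    simp only [Subgroup.coe_mul, LinearEquiv.mul_apply, isieg_apply, sieg_sieg h.alt hu hw,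
      sieg_sieg h.alt hw hu] at this
    rw [add_comm w u, add_right_inj, alt_swap h.alt u w] at this
    have h4 := smul_left_injective F hv this
    apply huw
    have : 2 * B x v * B w u = 0 := by linear_combination h4
    simpa [h2, hx] using this
  · have hm := mul_mem (inv_mem (mul_mem (isieg_mem_heis h.alt hu) (isieg_mem_heis h.alt hw)))
      (mul_mem (isieg_mem_heis h.alt hw) (isieg_mem_heis h.alt hu))
    rw [hc] at hm
    have h5 : -v = v := hm.1
    rw [neg_eq_iff_add_eq_zero, ← two_smul F v] at h5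
    exact hv ((smul_eq_zero.1 h5).resolve_left h2)

omit [FiniteDimensional F V] in
theorem commute_of_fix {B : LinearMap.BilinForm F V} {W : Submodule F V}
    (hW : B.orthogonal W ≤ W) {a b : isom B} (ha : a ∈ fix B W) (hb : b ∈ fix B W) :
    Commute a b := by
  have key : ∀ {a : isom B}, a ∈ fix B W → ∀ x, a.1 x - x ∈ W := fun {a} ha x => hW fun w hw => by
    have := a.2 w x
    rw [ha w hw] at this
    simp [this]
  rw [commute_iff_eq]
  ext x
  have h1 := ha _ (key hb x)
  have h2 := hb _ (key ha x)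
  rw [map_sub, sub_eq_iff_eq_add] at h1 h2
  simp only [Subgroup.coe_mul, LinearEquiv.mul_apply, h1, h2]
  abel

variable [Finite F]

/-- A normal `p`-subgroup of the stabiliser of a totally isotropic subspace fixes all its points. -/
theorem smul_eq_of_normal_pstab {B : LinearMap.BilinForm F V} [h : IsSymp B] (p : ℕ) [Fact p.Prime]
    [CharP F p] {W : Submodule F V} (hW : W ≤ B.orthogonal W) {Q : Subgroup (PIsom B)}
    (hQ : IsPGroup p Q) (hle : Q ≤ pstab B W) (hn : ∀ g ∈ pstab B W, ∀ t ∈ Q, g⁻¹ * t * g ∈ Q)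
    {t : PIsom B} (ht : t ∈ Q) {w : V} (hw : w ∈ W) (h0 : w ≠ 0) :
    t • Projectivization.mk F w h0 = Projectivization.mk F w h0 := by
  obtain ⟨u, hu, hu0, hfix⟩ := exists_fixed_point p hQ (U := W)
    (fun e => h0 (by simpa [e] using hw)) hle
  obtain ⟨g, hg, e⟩ := exists_pstab_smul_eq hW hu hw hu0 h0
  have := hfix _ (hn g hg t ht)
  rwa [mul_smul, mul_smul, inv_smul_eq_iff, e] at this

/-- A normal `p`-subgroup of the stabiliser of a Lagrangian subspace is abelian. -/
theorem commute_of_normal_pstab {B : LinearMap.BilinForm F V} [h : IsSymp B] (p : ℕ) [Fact p.Prime]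
    [CharP F p] {W : Submodule F V} (hW : W = B.orthogonal W) {Q : Subgroup (PIsom B)}
    (hQ : IsPGroup p Q) (hle : Q ≤ pstab B W) (hn : ∀ g ∈ pstab B W, ∀ t ∈ Q, g⁻¹ * t * g ∈ Q)
    {s t : PIsom B} (hs : s ∈ Q) (ht : t ∈ Q) : Commute s t := by
  have key : ∀ t ∈ Q, ∃ A ∈ fix B W, QuotientGroup.mk A = t := fun t ht => by
    obtain ⟨k, hk⟩ := hQ ⟨t, ht⟩
    obtain ⟨A, e, hA⟩ := exists_lift_fix p (g := t) (congrArg Subtype.val hk)
    refine ⟨A, fun w hw => ?_, e⟩
    by_cases h0 : w = 0
    · simp [h0]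
    · exact hA w h0 (smul_eq_of_normal_pstab p hW.le hQ hle hn ht hw h0)
  obtain ⟨a, ha, rfl⟩ := key s hs
  obtain ⟨b, hb, rfl⟩ := key t ht
  exact (commute_of_fix hW.ge ha hb).map (QuotientGroup.mk' _)

/-- In odd characteristic, or in dimension different from four, every automorphism of the projective symplectic
group is induced by a permutation of the points. -/
theorem geomAut_eq_top {B : LinearMap.BilinForm F V} [h : IsSymp B] (p : ℕ) [Fact p.Prime]
    [CharP F p] [Nontrivial V] (hp : ¬ (finrank F V = 4 ∧ p = 2)) :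
    AutGen.geomAut (PIsom B) (ℙ F V) = ⊤ := by
  rw [eq_top_iff]
  intro θ _
  obtain ⟨v, hv⟩ := exists_ne (0 : V)
  rcases mem_geomAut_or p θ (Projectivization.mk F v hv) with h1 | ⟨h4, W, hW2, hW, e⟩
  · exact h1
  exfalso
  have hp2 : p ≠ 2 := fun e => hp ⟨h4, e⟩
  have h2 : (2 : F) ≠ 0 := by
    intro e
    have : p ∣ 2 := (CharP.cast_eq_zero_iff F p 2).1 (by exact_mod_cast e)
    exact hp2 ((Nat.prime_dvd_prime_iff_eq Fact.out Nat.prime_two).1 this)
  have hWeq : W = B.orthogonal W := Submodule.eq_of_le_of_finrank_eq hW (by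
    rw [LinearMap.BilinForm.finrank_orthogonal h.nondeg]; omega)
  obtain ⟨a, ha, b, hb, hab⟩ := exists_not_commute_heis (B := B) h2 (by omega) hv
  have hP : IsPGroup p (heis B v) := fun A =>
    ⟨1, Subtype.ext (by simpa using heis_pow_char p hp2 hv A.2)⟩
  have := commute_of_normal_pstab p hWeq
    (Q := ((heis B v).map (QuotientGroup.mk' _)).map (θ : PIsom B →* PIsom B))
    ((hP.map _).map _)
    (by
      rw [← e]
      apply Subgroup.map_mono
      rintro _ ⟨A, hA, rfl⟩
      exact (isom_smul_mk_eq_iff A hv).2 ⟨1, by simp [hA.1]⟩)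
    (by
      rw [← e]
      rintro _ ⟨g, hg, rfl⟩ _ ⟨_, ⟨A, hA, rfl⟩, rfl⟩
      induction g using QuotientGroup.induction_on with | _ g =>
      obtain ⟨c, hc⟩ := (isom_smul_mk_eq_iff g hv).1 hg
      have hc0 : c ≠ 0 := by
        rintro rfl
        simp [hv] at hc
      exact ⟨_, ⟨_, conj_mem_heis hc hc0 hA, rfl⟩, by simp⟩)
    (s := θ (QuotientGroup.mk a)) (t := θ (QuotientGroup.mk b)) ⟨_, ⟨a, ha, rfl⟩, rfl⟩
    ⟨_, ⟨b, hb, rfl⟩, rfl⟩
  apply hab
  rw [commute_iff_eq] at this ⊢
  apply θ.injective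
  simpa using this

end CL.Symp
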