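import Cfsg.Agent.Base

/-!
# Automorphisms induced by permutations

For a faithful transitive action of `G` on `X` in which a point is determined by its stabiliser, the automorphisms
of `G` permuting the point stabilisers correspond to the permutations of `X` normalising `G`.
-/

set_option autoImplicit false

namespace CL.AutGen

open MulAction

variable (G X : Type*) [Group G] [MulAction G X]

/-- Compatible pairs of an automorphism of `G` and a permutation of `X`. -/
def pairs : Subgroup (MulAut G × Equiv.Perm X) where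
  carrier := {e | ∀ (g : G) (x : X), e.2 (g • x) = e.1 g • e.2 x}
  mul_mem' {a b} ha hb := fun g x => by
    simp only [Prod.snd_mul, Prod.fst_mul, Equiv.Perm.mul_apply, MulAut.mul_apply]
    rw [hb, ha]
  one_mem' := fun _ _ => rfl
  inv_mem' {a} ha := fun g x => by
    apply a.2.injective
    rw [ha]
    simp

/-- The automorphisms of `G` induced by a permutation of `X`. -/
def geomAut : Subgroup (MulAut G) := (pairs G X).map (MonoidHom.fst _ _)

/-- The permutations of `X` inducing an automorphism of `G`. -/
def geomPerm : Subgroup (Equiv.Perm X) := (pairs G X).map (MonoidHom.snd _ _)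

variable {G X}

theorem mem_geomAut {θ : MulAut G} :
    θ ∈ geomAut G X ↔ ∃ π : Equiv.Perm X, ∀ (g : G) (x : X), π (g • x) = θ g • π x :=
  ⟨fun ⟨e, he, h⟩ => ⟨e.2, h ▸ he⟩, fun ⟨π, h⟩ => ⟨(θ, π), h, rfl⟩⟩

theorem mem_geomPerm {π : Equiv.Perm X} :
    π ∈ geomPerm G X ↔ ∃ θ : MulAut G, ∀ (g : G) (x : X), π (g • x) = θ g • π x :=
  ⟨fun ⟨e, he, h⟩ => ⟨e.1, h ▸ he⟩, fun ⟨θ, h⟩ => ⟨(θ, π), h, rfl⟩⟩

theorem card_geomAut_eq [FaithfulSMul G X]
    (hfix : ∀ x y : X, stabilizer G x = stabilizer G y → x = y) :
    Nat.card (geomAut G X) = Nat.card (geomPerm G X) := by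
  have h1 : Function.Injective ((MonoidHom.fst _ _).comp (pairs G X).subtype) := by
    rw [injective_iff_map_eq_one]
    rintro ⟨⟨θ, π⟩, h⟩ e
    obtain rfl : θ = 1 := e
    have : π = 1 := by
      ext x
      apply hfix
      ext g
      rw [mem_stabilizer_iff, mem_stabilizer_iff]
      have := h g x
      simp only [MulAut.one_apply] at this
      rw [← this]
      exact π.injective.eq_iff
    subst this
    rfl
  have h2 : Function.Injective ((MonoidHom.snd _ _).comp (pairs G X).subtype) := by
    rw [injective_iff_map_eq_one]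
    rintro ⟨⟨θ, π⟩, h⟩ e
    obtain rfl : π = 1 := e
    have : θ = 1 := by
      ext g
      exact (eq_of_smul_eq_smul (α := X) fun x => h g x).symm
    subst this
    rfl
  have e1 := MonoidHom.ofInjective h1
  have e2 := MonoidHom.ofInjective h2
  rw [MonoidHom.range_comp, Subgroup.range_subtype] at e1 e2
  exact (Nat.card_congr e1.toEquiv).symm.trans (Nat.card_congr e2.toEquiv)

theorem mem_geomAut_of_stabilizer [IsPretransitive G X] {θ : MulAut G} {x y : X}
    (h : ∀ g : G, g • x = x ↔ θ g • y = y) : θ ∈ geomAut G X := by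
  choose t ht using fun z => exists_smul_eq G x z
  have key : ∀ a b : G, a • x = b • x ↔ θ a • y = θ b • y := fun a b => by
    rw [← inv_smul_eq_iff, ← mul_smul, h, map_mul, map_inv, mul_smul, inv_smul_eq_iff]
  refine mem_geomAut.2 ⟨Equiv.ofBijective (fun z => θ (t z) • y) ⟨fun a b e => ?_, fun z => ?_⟩,
    fun g z => ?_⟩
  · rw [← ht a, ← ht b]
    exact (key _ _).2 e
  · obtain ⟨g, rfl⟩ := exists_smul_eq G y z
    refine ⟨θ.symm g • x, ?_⟩
    have := (key (t (θ.symm g • x)) (θ.symm g)).1 (ht _)
    simpa using this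
  · change θ (t (g • z)) • y = θ g • θ (t z) • y
    rw [← mul_smul, ← map_mul, ← key, ht, mul_smul, ht]

theorem card_stabilizer_eq [IsPretransitive G X] (x y : X) :
    Nat.card (stabilizer G x) = Nat.card (stabilizer G y) := by
  obtain ⟨g, rfl⟩ := exists_smul_eq G x y
  exact Nat.card_congr (stabilizerEquivStabilizer (g := g) rfl).toEquiv

theorem mem_geomAut_of_le [Finite G] [IsPretransitive G X] {θ : MulAut G} {x y : X}
    (h : ∀ g : G, g • x = x → θ g • y = y) : θ ∈ geomAut G X := by
  have h1 : (stabilizer G x).map (θ : G →* G) = stabilizer G y := by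
    apply Subgroup.eq_of_le_of_card_ge
    · rintro _ ⟨g, hg, rfl⟩
      exact h g hg
    · rw [Subgroup.card_map_of_injective θ.injective, card_stabilizer_eq x y]
  refine mem_geomAut_of_stabilizer (x := x) (y := y) fun g => ⟨h g, fun hg => ?_⟩
  have : θ g ∈ (stabilizer G x).map (θ : G →* G) := h1 ▸ hg
  obtain ⟨g', hg', e⟩ := this
  rwa [← θ.injective e]

/-- A permutation conjugating the action of each element to the action of some element induces an
automorphism. -/
theorem mem_geomPerm_of_forall [Finite G] [FaithfulSMul G X] {π : Equiv.Perm X}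
    (h : ∀ g : G, ∃ g' : G, ∀ x, π (g • x) = g' • π x) : π ∈ geomPerm G X := by
  choose f hf using h
  have hext : ∀ a b : G, (∀ x, a • π x = b • π x) → a = b := fun a b e =>
    eq_of_smul_eq_smul (α := X) fun x => by simpa using e (π.symm x)
  let φ : G →* G := MonoidHom.mk' f fun a b => hext _ _ fun x => by
    rw [← hf, mul_smul, hf, hf, mul_smul]
  have hφ : Function.Injective φ := fun a b e => eq_of_smul_eq_smul (α := X) fun x =>
    π.injective (by rw [hf, hf]; exact congrArg (· • π x) e)
  exact mem_geomPerm.2 ⟨MulEquiv.ofBijective φ (Finite.injective_iff_bijective.1 hφ), hf⟩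

end CL.AutGen
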