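import Cfsg.Agent.Symp.PAct
import Cfsg.Agent.Symp.AutGen

/-!
# Automorphisms of projective symplectic groups permute the point stabilisers

except possibly in dimension four and characteristic two.
-/

set_option autoImplicit false

namespace CL.Symp

open Module LinearMap
open scoped LinearAlgebra.Projectivization

variable {F V : Type*} [Field F] [AddCommGroup V] [Module F V]

/-- The transvection `tv` as an element of the isometry group. -/
def itv (B : LinearMap.BilinForm F V) [h : IsSymp B] (v : V) (c : F) : isom B :=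
  ⟨tv h.alt v c, tv_mem_isom h.alt v c⟩

theorem itv_apply (B : LinearMap.BilinForm F V) [h : IsSymp B] (v : V) (c : F) (x : V) :
    (itv B v c).1 x = x + (c * B x v) • v := tv_apply h.alt v c x

/-- The transvection group with centre `v` as a homomorphism. -/
def itvHom (B : LinearMap.BilinForm F V) [h : IsSymp B] (v : V) : Multiplicative F →* isom B where
  toFun c := itv B v c.toAdd
  map_one' := Subtype.ext (tv_zero h.alt v)
  map_mul' _ _ := Subtype.ext (tv_mul h.alt v _ _).symm

/-- The transvection group with centre `v` in the projective group. -/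
def ptv (B : LinearMap.BilinForm F V) [IsSymp B] (v : V) : Subgroup (PIsom B) :=
  ((QuotientGroup.mk' _).comp (itvHom B v)).range

theorem mem_ptv {B : LinearMap.BilinForm F V} [IsSymp B] {v : V} {g : PIsom B} :
    g ∈ ptv B v ↔ ∃ c : F, QuotientGroup.mk (itv B v c) = g := Iff.rfl

theorem ptv_isPGroup (B : LinearMap.BilinForm F V) [IsSymp B] (p : ℕ) [CharP F p] (v : V) :
    IsPGroup p (ptv B v) := by
  have : IsPGroup p (Multiplicative F) := fun c => ⟨1, by
    apply Multiplicative.toAdd.injective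
    simp⟩
  exact this.of_surjective _ (MonoidHom.rangeRestrict_surjective _)

theorem conj_mem_ptv {B : LinearMap.BilinForm F V} [h : IsSymp B] {v : V} (hv : v ≠ 0)
    {g : PIsom B} (hg : g • Projectivization.mk F v hv = Projectivization.mk F v hv) {t : PIsom B}
    (ht : t ∈ ptv B v) : g⁻¹ * t * g ∈ ptv B v := by
  obtain ⟨c, rfl⟩ := mem_ptv.1 ht
  rw [eq_comm, ← inv_smul_eq_iff] at hg
  induction g using QuotientGroup.induction_on with | _ g =>
  obtain ⟨a, ha⟩ := (isom_smul_mk_eq_iff g⁻¹ hv).1 hg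
  refine mem_ptv.2 ⟨a ^ 2 * c, ?_⟩
  rw [← QuotientGroup.mk_inv, ← QuotientGroup.mk_mul, ← QuotientGroup.mk_mul]
  congr 1
  apply Subtype.ext
  have := conj_tv h.alt (g⁻¹).2 v c
  rw [ha, tv_smul] at this
  simpa [itv] using this.symm

theorem ptv_smul_eq {B : LinearMap.BilinForm F V} [IsSymp B] {v w : V} (hw : w ≠ 0)
    (h : B w v = 0) {t : PIsom B} (ht : t ∈ ptv B v) :
    t • Projectivization.mk F w hw = Projectivization.mk F w hw := by
  obtain ⟨c, rfl⟩ := mem_ptv.1 ht
  rw [mk_smul, isom_smul_mk_eq_iff]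
  exact ⟨1, by simp [itv_apply, h]⟩

theorem ptv_ne_bot (B : LinearMap.BilinForm F V) [h : IsSymp B] {v : V} (hv : v ≠ 0) :
    ptv B v ≠ ⊥ := by
  intro hb
  have : (QuotientGroup.mk (itv B v 1) : PIsom B) ∈ ptv B v := mem_ptv.2 ⟨1, rfl⟩
  rw [hb, Subgroup.mem_bot, QuotientGroup.eq_one_iff, mem_center_iff_forall_smul] at this
  obtain ⟨x, hx⟩ := exists_form_ne_zero B hv
  have hx0 : x ≠ 0 := by rintro rfl; simp at hx
  obtain ⟨c, hc⟩ := (isom_smul_mk_eq_iff _ hx0).1 (this _)
  rw [itv_apply, one_mul] at hc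
  have h1 := congrArg (B x) hc
  simp [h.alt.self_eq_zero, hx] at h1

variable [FiniteDimensional F V]

theorem eq_of_stabilizer_le {B : LinearMap.BilinForm F V} [h : IsSymp B] {x y : ℙ F V}
    (hle : MulAction.stabilizer (PIsom B) x ≤ MulAction.stabilizer (PIsom B) y) : x = y := by
  induction x using Projectivization.ind with | _ a ha =>
  induction y using Projectivization.ind with | _ b hb =>
  by_contra hne
  have hab : b ∉ Submodule.span F {a} := by
    intro hm
    obtain ⟨c, rfl⟩ := Submodule.mem_span_singleton.1 hm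
    exact hne ((Projectivization.mk_eq_mk_iff' F _ _ _ _).2 ⟨c, rfl⟩).symm
  obtain ⟨g, hg, e1, e2⟩ := exists_isom_fix h.nondeg h.alt (a := a) (x := b) (y := b + a) hab
    (by rwa [Submodule.add_mem_iff_left _ (Submodule.mem_span_singleton_self a)])
    (by simp [h.alt.self_eq_zero])
  have h1 : (QuotientGroup.mk ⟨g, hg⟩ : PIsom B) ∈
      MulAction.stabilizer (PIsom B) (Projectivization.mk F a ha) :=
    (isom_smul_mk_eq_iff ⟨g, hg⟩ ha).2 ⟨1, by simp [e1]⟩
  obtain ⟨c, hc⟩ := (isom_smul_mk_eq_iff ⟨g, hg⟩ hb).1 (hle h1)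
  apply hne
  refine (Projectivization.mk_eq_mk_iff' F _ _ _ _).2 ⟨c - 1, ?_⟩
  rw [sub_smul, ← hc, one_smul]
  simp [e2]

/-- The stabiliser of a totally isotropic subspace is transitive on its points. -/
theorem exists_pstab_smul_eq {B : LinearMap.BilinForm F V} [h : IsSymp B] {W : Submodule F V}
    (hW : W ≤ B.orthogonal W) {u u' : V} (hu : u ∈ W) (hu' : u' ∈ W) (h0 : u ≠ 0) (h0' : u' ≠ 0) :
    ∃ g ∈ pstab B W, g • Projectivization.mk F u h0 = Projectivization.mk F u' h0' := by
  have := MulAction.isPretransitive_of_is_two_pretransitive (G := W ≃ₗ[F] W) (α := ℙ F W)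
  obtain ⟨g, hg⟩ := MulAction.exists_smul_eq (W ≃ₗ[F] W)
    (Projectivization.mk F (⟨u, hu⟩ : W) (fun e => h0 (congrArg Subtype.val e)))
    (Projectivization.mk F (⟨u', hu'⟩ : W) (fun e => h0' (congrArg Subtype.val e)))
  rw [Projectivization.smul_mk, Projectivization.mk_eq_mk_iff'] at hg
  obtain ⟨c, hc⟩ := hg
  obtain ⟨t, ht⟩ := restrictStab_surjective h.nondeg h.alt W
    ⟨g, by rw [isom_restrict_eq_top hW]; trivial⟩
  refine ⟨QuotientGroup.mk t.1, mk_mem_pstab.2 t.2, ?_⟩
  rw [mk_smul, isom_smul_mk, Projectivization.mk_eq_mk_iff']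
  refine ⟨c, ?_⟩
  have := restrictStab_apply B W t ⟨u, hu⟩
  rw [ht] at this
  rw [← this]
  exact congrArg Subtype.val hc

theorem not_pstab_le_stabilizer {B : LinearMap.BilinForm F V} [h : IsSymp B] {W : Submodule F V}
    (hW : W ≤ B.orthogonal W) (h2 : 2 ≤ finrank F W) (z : ℙ F V) :
    ¬ pstab B W ≤ MulAction.stabilizer (PIsom B) z := by
  intro hle
  induction z using Projectivization.ind with | _ u hu =>
  obtain ⟨w, hw, hwu⟩ : ∃ w ∈ W, w ∉ Submodule.span F {u} := by
    by_contra hc
    push Not at hc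
    have := Submodule.finrank_mono (show W ≤ Submodule.span F {u} from hc)
    rw [finrank_span_singleton hu] at this
    omega
  have hw0 : w ≠ 0 := fun e => hwu (e ▸ Submodule.zero_mem _)
  by_cases huW : u ∈ W
  · obtain ⟨g, hg, e⟩ := exists_pstab_smul_eq hW huW hw hu hw0
    rw [hle hg, eq_comm, Projectivization.mk_eq_mk_iff'] at e
    obtain ⟨c, rfl⟩ := e
    exact hwu (Submodule.smul_mem _ _ (Submodule.mem_span_singleton_self u))
  · obtain ⟨g, hg, e⟩ := step h.nondeg h.alt (S := W) (x := u) (y := u + w) huW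
      (by rwa [Submodule.add_mem_iff_left _ hw])
      (fun s hs => by have : B s w = 0 := hW hw s hs; simp [this])
    have h1 : (QuotientGroup.mk ⟨g, tvSub_le_isom _ _ hg⟩ : PIsom B) ∈ pstab B W :=
      mk_mem_pstab.2 (fix_le_stab B W fun s hs => tvSub_orthogonal_fix _ hg hs)
    obtain ⟨c, hc⟩ := (isom_smul_mk_eq_iff _ hu).1 (hle h1)
    apply hwu
    refine Submodule.mem_span_singleton.2 ⟨c - 1, ?_⟩
    rw [sub_smul, ← hc, one_smul]
    simp [e]

theorem prod_pow_sub_pow (q k : ℕ) :
    ∏ i : Fin k, (q ^ k - q ^ (i : ℕ)) =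
      q ^ (k * (k - 1) / 2) * ∏ i ∈ Finset.range k, (q ^ (i + 1) - 1) := by
  rw [← Finset.sum_range_id, ← Finset.prod_pow_eq_pow_sum,
    ← Finset.prod_range_reflect (fun i => q ^ (i + 1) - 1), ← Finset.prod_mul_distrib,
    ← Finset.prod_range (fun i => q ^ k - q ^ i)]
  refine Finset.prod_congr rfl fun i hi => ?_
  rw [Finset.mem_range] at hi
  rw [Nat.mul_sub, mul_one, ← pow_add]
  congr 2
  omega

variable [Finite F]

theorem card_stab_isotropic {B : LinearMap.BilinForm F V} [h : IsSymp B] (j k : ℕ)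
    {W : Submodule F V} (hW : W ≤ B.orthogonal W) (hk : finrank F W = k)
    (hV : finrank F V = 2 * (k + j)) :
    Nat.card (stab B W) = Nat.card F ^ ((k + j) ^ 2) *
      (∏ i ∈ Finset.range j, (Nat.card F ^ (2 * (i + 1)) - 1)) *
      ∏ i ∈ Finset.range k, (Nat.card F ^ (i + 1) - 1) := by
  have := Fintype.ofFinite F
  rw [card_stab h.nondeg h.alt, card_fix_isotropic h.nondeg h.alt j k W hW hk hV,
    isom_restrict_eq_top hW, Subgroup.card_top, card_linearEquiv k hk, prod_pow_sub_pow,
    ← Nat.card_eq_fintype_card]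
  have e : (k + j) ^ 2 = (k * (k + 1) / 2 + 2 * k * j + j ^ 2) + k * (k - 1) / 2 := by
    rcases k with _ | k
    · simp
    · have h1 : (k + 1) * (k + 1 + 1) = (k + 1) * k + (k + 1) * 2 := by ring
      obtain ⟨c, hc⟩ : Even (k * (k + 1)) := Nat.even_mul_succ_self k
      have h2 : (k + 1 + j) ^ 2 = k * (k + 1) + (k + 1) + 2 * (k + 1) * j + j ^ 2 := by ring
      rw [h1, h2, Nat.add_sub_cancel, mul_comm (k + 1) k, hc]
      omega
  rw [e, pow_add _ _ (k * (k - 1) / 2)]
  ring

theorem aux_ineq {q j k : ℕ} (hq : 2 ≤ q)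
    (h : ∏ i ∈ Finset.range k, (q ^ (2 * (j + i + 1)) - 1) ≤
      ∏ i ∈ Finset.range k, (q ^ (i + 1 + 1) - 1)) : k = 0 ∨ (k = 1 ∧ j = 0) := by
  by_contra hc
  push Not at hc
  refine absurd h (not_le.2 (Finset.prod_lt_prod (fun i _ => ?_) (fun i _ => ?_) ?_))
  · have : 1 < q ^ (i + 1 + 1) := Nat.one_lt_pow (by omega) hq
    omega
  · exact Nat.sub_le_sub_right (Nat.pow_le_pow_right (by omega) (by omega)) 1
  · refine ⟨k - 1, Finset.mem_range.2 (by omega), ?_⟩
    have h1 : q ^ (k - 1 + 1 + 1) < q ^ (2 * (j + (k - 1) + 1)) :=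
      Nat.pow_lt_pow_right hq (by omega)
    have : 1 < q ^ (k - 1 + 1 + 1) := Nat.one_lt_pow (by omega) hq
    omega

/-- A totally isotropic subspace whose stabiliser is at least as large as a point stabiliser is a point, or a
line in dimension four. -/
theorem finrank_of_card_le {B : LinearMap.BilinForm F V} [h : IsSymp B] {W : Submodule F V}
    (hW : W ≤ B.orthogonal W) (hW0 : W ≠ ⊥) (y : ℙ F V)
    (hle : Nat.card (MulAction.stabilizer (PIsom B) y) ≤ Nat.card (pstab B W)) :
    finrank F W = 1 ∨ (finrank F W = 2 ∧ finrank F V = 4) := by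
  obtain ⟨k, hk⟩ : ∃ k, finrank F W = k + 1 :=
    Nat.exists_eq_succ_of_ne_zero (fun e => hW0 (Submodule.finrank_eq_zero.1 e))
  obtain ⟨m, hm⟩ := even_finrank h.nondeg h.alt
  have h1 := Submodule.finrank_mono hW
  rw [LinearMap.BilinForm.finrank_orthogonal h.nondeg] at h1
  obtain ⟨j, hj⟩ : ∃ j, m = k + 1 + j := ⟨m - (k + 1), by omega⟩
  have hy : y.submodule ≤ B.orthogonal y.submodule := by
    rw [Projectivization.submodule_eq]
    intro u hu w hw
    obtain ⟨c, rfl⟩ := Submodule.mem_span_singleton.1 hu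
    obtain ⟨d, rfl⟩ := Submodule.mem_span_singleton.1 hw
    simp [h.alt.self_eq_zero]
  have h2 : Nat.card (stab B y.submodule) ≤ Nat.card (stab B W) := by
    rw [card_stab_eq_mul, card_stab_eq_mul, ← stabilizer_eq_pstab]
    exact Nat.mul_le_mul_right _ hle
  rw [card_stab_isotropic (j + k) 1 hy y.finrank_submodule (by omega),
    card_stab_isotropic j (k + 1) hW hk (by omega), Finset.prod_range_add, Finset.prod_range_succ',
    Finset.prod_range_succ', show 1 + (j + k) = k + 1 + j by omega] at h2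
  have hq : 2 ≤ Nat.card F := Finite.one_lt_card
  have hpos : 0 < Nat.card F ^ (k + 1 + j) ^ 2 *
      (∏ i ∈ Finset.range j, (Nat.card F ^ (2 * (i + 1)) - 1)) * (Nat.card F ^ (0 + 1) - 1) := by
    refine Nat.mul_pos (Nat.mul_pos (by positivity) (Finset.prod_pos fun i _ => ?_)) ?_
    · have : 1 < Nat.card F ^ (2 * (i + 1)) := Nat.one_lt_pow (by omega) hq
      omega
    · simp; omega
  have h3 := aux_ineq (j := j) (k := k) hq (Nat.le_of_mul_le_mul_left (by
    refine le_of_eq_of_le ?_ (h2.trans_eq ?_)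
    · simp only [Finset.range_zero, Finset.prod_empty]; ring
    · ring) hpos)
  omega

/-- An automorphism of the projective symplectic group sends a point stabiliser to a point stabiliser or, in
dimension four, to the stabiliser of a totally isotropic line. -/
theorem mem_geomAut_or {B : LinearMap.BilinForm F V} [h : IsSymp B] (p : ℕ) [Fact p.Prime]
    [CharP F p] (θ : MulAut (PIsom B)) (y : ℙ F V) :
    θ ∈ AutGen.geomAut (PIsom B) (ℙ F V) ∨ (finrank F V = 4 ∧ ∃ W : Submodule F V,
      finrank F W = 2 ∧ W ≤ B.orthogonal W ∧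
      (MulAction.stabilizer (PIsom B) y).map (θ : PIsom B →* PIsom B) = pstab B W) := by
  have : Finite V := Module.finite_of_finite F
  have : Finite (V ≃ₗ[F] V) := Finite.of_injective _ DFunLike.coe_injective
  induction y using Projectivization.ind with | _ v hv =>
  obtain ⟨W, hW0, hW, hle⟩ := exists_isotropic_stab (B := B) p
    (Q := (ptv B v).map (θ : PIsom B →* PIsom B))
    (H := (MulAction.stabilizer (PIsom B) (Projectivization.mk F v hv)).map
      (θ : PIsom B →* PIsom B))
    ((ptv_isPGroup B p v).map _)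
    (fun e => ptv_ne_bot B hv ((Subgroup.map_eq_bot_iff_of_injective _ θ.injective).1 e))
    (by
      rintro _ ⟨g, hg, rfl⟩ _ ⟨t, ht, rfl⟩
      exact ⟨g⁻¹ * t * g, conj_mem_ptv hv hg ht, by simp⟩)
  have hc := Subgroup.card_le_of_le hle
  rw [Subgroup.card_map_of_injective θ.injective] at hc
  rcases finrank_of_card_le hW hW0 _ hc with h1 | ⟨h1, h2⟩
  · left
    refine AutGen.mem_geomAut_of_le (x := Projectivization.mk F v hv)
      (y := Projectivization.mk'' W h1) fun g hg => ?_
    have := hle ⟨g, hg, rfl⟩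
    rw [← Projectivization.submodule_mk'' W h1, ← stabilizer_eq_pstab] at this
    exact this
  · right
    refine ⟨h2, W, h1, hW, Subgroup.eq_of_le_of_card_ge hle ?_⟩
    rw [Subgroup.card_map_of_injective θ.injective, stabilizer_eq_pstab]
    have hZ : 0 < Nat.card (Subgroup.center (isom B)) := Nat.card_pos
    apply Nat.le_of_mul_le_mul_right _ hZ
    have hy : (Projectivization.mk F v hv).submodule ≤
        B.orthogonal (Projectivization.mk F v hv).submodule := by
      intro u hu w hw
      obtain ⟨c, rfl⟩ := Submodule.mem_span_singleton.1 hu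
      obtain ⟨d, rfl⟩ := Submodule.mem_span_singleton.1 hw
      simp [h.alt.self_eq_zero]
    rw [← card_stab_eq_mul, ← card_stab_eq_mul, card_stab_isotropic 0 2 hW h1 (by omega),
      card_stab_isotropic 1 1 hy (Projectivization.finrank_submodule _) (by omega)]
    simp [Finset.prod_range_succ, mul_comm, mul_assoc]

end CL.Symp
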