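import Cfsg.Agent.Symp.Prim
import Cfsg.Agent.Symp.Count

/-!
# The projective symplectic group acting on points

Centre, the action of `isom B ⧸ centre` on projective space, unipotent lifts of `p`-elements, and: a subgroup
normalising a non-trivial `p`-subgroup stabilises a non-zero totally isotropic subspace.
-/

set_option autoImplicit false

namespace CL.Symp

open Module LinearMap
open scoped LinearAlgebra.Projectivization

variable {F V : Type*} [Field F] [AddCommGroup V] [Module F V]

/-- `B` is a non-degenerate alternating form. -/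
class IsSymp (B : LinearMap.BilinForm F V) : Prop where
  nondeg : B.Nondegenerate
  alt : B.IsAlt

instance isSymp_form (l : Type*) [Fintype l] [DecidableEq l] (F : Type*) [Field F] :
    IsSymp (form l F) := ⟨form_nondegenerate, form_isAlt⟩

/-- The projective group of a form. -/
abbrev PIsom (B : LinearMap.BilinForm F V) : Type _ := isom B ⧸ Subgroup.center (isom B)

theorem isom_smul_mk {B : LinearMap.BilinForm F V} (g : isom B) {v : V} (hv : v ≠ 0) :
    g • Projectivization.mk F v hv =
      Projectivization.mk F (g.1 v) (by simpa using hv) := rfl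

theorem isom_smul_mk_eq_iff {B : LinearMap.BilinForm F V} (g : isom B) {v : V} (hv : v ≠ 0) :
    g • Projectivization.mk F v hv = Projectivization.mk F v hv ↔ ∃ c : F, g.1 v = c • v := by
  rw [isom_smul_mk, Projectivization.mk_eq_mk_iff']
  simp only [eq_comm]

/-- The isometry `-1`. -/
def negIsom (B : LinearMap.BilinForm F V) : isom B :=
  ⟨LinearEquiv.neg F, fun u v => by simp⟩

@[simp] theorem negIsom_apply (B : LinearMap.BilinForm F V) (v : V) : (negIsom B).1 v = -v := rfl

theorem negIsom_mem_center (B : LinearMap.BilinForm F V) :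
    negIsom B ∈ Subgroup.center (isom B) := by
  rw [Subgroup.mem_center_iff]
  intro g
  ext v
  simp [LinearEquiv.mul_apply]

theorem exists_form_ne_zero (B : LinearMap.BilinForm F V) [h : IsSymp B] {v : V} (hv : v ≠ 0) :
    ∃ x, B x v ≠ 0 := by
  by_contra hc
  push Not at hc
  exact hv (h.nondeg.2 v hc)

theorem smul_eq_of_mem_center {B : LinearMap.BilinForm F V} [h : IsSymp B] {g : isom B}
    (hg : g ∈ Subgroup.center (isom B)) (x : ℙ F V) : g • x = x := by
  induction x using Projectivization.ind with | _ v hv =>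
  rw [isom_smul_mk_eq_iff]
  have h1 := Subgroup.mem_center_iff.1 hg ⟨tv h.alt v 1, tv_mem_isom _ _ _⟩
  have h2 : tv h.alt (g.1 v) 1 = tv h.alt v 1 := by
    rw [← conj_tv h.alt g.2, mul_inv_eq_iff_eq_mul]
    exact (congrArg Subtype.val h1).symm
  obtain ⟨x, hx⟩ := exists_form_ne_zero B (v := g.1 v) (by simpa using hv)
  have h3 := congrArg (fun t : V ≃ₗ[F] V => t x) h2
  simp only [tv_apply, one_mul, add_right_inj] at h3
  refine ⟨(B x (g.1 v))⁻¹ * B x v, ?_⟩
  rw [mul_smul, ← h3, smul_smul, inv_mul_cancel₀ hx, one_smul]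

theorem eq_one_or_neg_of_forall_smul_eq {B : LinearMap.BilinForm F V} [h : IsSymp B] {g : isom B}
    (hg : ∀ x : ℙ F V, g • x = x) : g = 1 ∨ g = negIsom B := by
  obtain ⟨a, ha⟩ := LinearMap.exists_eq_smul_id_of_forall_notLinearIndependent
    (f := (g.1 : V →ₗ[F] V)) (fun v hli => by
      have hv : v ≠ 0 := hli.ne_zero 0
      obtain ⟨c, hc⟩ := (isom_smul_mk_eq_iff g hv).1 (hg _)
      rw [LinearIndependent.pair_iff] at hli
      have := hli c (-1) (by simp [hc])
      simp at this)
  have ha' : ∀ v, g.1 v = a • v := fun v => congr($ha v)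
  rcases subsingleton_or_nontrivial V with hV | hV
  · left; ext v; exact Subsingleton.elim _ _
  · obtain ⟨v, hv⟩ := exists_ne (0 : V)
    obtain ⟨x, hx⟩ := exists_form_ne_zero B hv
    have := g.2 x v
    rw [ha', ha'] at this
    simp only [map_smul, LinearMap.smul_apply, smul_eq_mul, ← mul_assoc] at this
    have h1 : a * a = 1 := mul_right_cancel₀ hx (by rw [this, one_mul])
    rcases mul_self_eq_one_iff.1 h1 with rfl | rfl
    · left; ext w; simp [ha']
    · right; ext w; simp [ha']

theorem mem_center_iff_forall_smul {B : LinearMap.BilinForm F V} [IsSymp B] {g : isom B} :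
    g ∈ Subgroup.center (isom B) ↔ ∀ x : ℙ F V, g • x = x := by
  refine ⟨smul_eq_of_mem_center, fun hg => ?_⟩
  rcases eq_one_or_neg_of_forall_smul_eq hg with rfl | rfl
  · exact one_mem _
  · exact negIsom_mem_center B

theorem mem_center_iff_eq {B : LinearMap.BilinForm F V} [IsSymp B] {g : isom B} :
    g ∈ Subgroup.center (isom B) ↔ g = 1 ∨ g = negIsom B := by
  refine ⟨fun hg => eq_one_or_neg_of_forall_smul_eq (smul_eq_of_mem_center hg), ?_⟩
  rintro (rfl | rfl)
  · exact one_mem _
  · exact negIsom_mem_center B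

/-- The permutation representation of the projective group on points. -/
noncomputable def pisomPerm (B : LinearMap.BilinForm F V) [IsSymp B] :
    PIsom B →* Equiv.Perm (ℙ F V) :=
  QuotientGroup.lift _ (MulAction.toPermHom (isom B) (ℙ F V)) fun _ hg =>
    Equiv.ext (smul_eq_of_mem_center hg)

noncomputable instance pisomAction (B : LinearMap.BilinForm F V) [IsSymp B] :
    MulAction (PIsom B) (ℙ F V) := MulAction.compHom _ (pisomPerm B)

@[simp] theorem mk_smul {B : LinearMap.BilinForm F V} [IsSymp B] (g : isom B) (x : ℙ F V) :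
    (QuotientGroup.mk g : PIsom B) • x = g • x := rfl

instance pisomFaithful (B : LinearMap.BilinForm F V) [IsSymp B] :
    FaithfulSMul (PIsom B) (ℙ F V) where
  eq_of_smul_eq_smul {a b} h := by
    induction a using QuotientGroup.induction_on with | _ a =>
    induction b using QuotientGroup.induction_on with | _ b =>
    rw [QuotientGroup.eq, mem_center_iff_forall_smul]
    intro x
    rw [mul_smul, inv_smul_eq_iff]
    exact (h x).symm

/-- A `p`-element of the projective group has a unipotent lift. -/
theorem exists_lift_pow {B : LinearMap.BilinForm F V} [IsSymp B] (p : ℕ) [Fact p.Prime]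
    [CharP F p] {g : PIsom B} {k : ℕ} (hg : g ^ p ^ k = 1) :
    ∃ A : isom B, QuotientGroup.mk A = g ∧ A ^ p ^ k = 1 := by
  induction g using QuotientGroup.induction_on with | _ A =>
  rw [← QuotientGroup.mk_pow, QuotientGroup.eq_one_iff, mem_center_iff_eq] at hg
  rcases hg with hg | hg
  · exact ⟨A, rfl, hg⟩
  · rcases (Fact.out : p.Prime).eq_two_or_odd' with rfl | hodd
    · refine ⟨A, rfl, hg.trans ?_⟩
      ext v
      have : (2 : F) = 0 := CharP.cast_eq_zero F 2
      have h2 : (2 : F) • v = 0 := by rw [this, zero_smul]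
      simp only [negIsom_apply, OneMemClass.coe_one, LinearEquiv.coe_one, id_eq]
      rw [neg_eq_iff_add_eq_zero, ← two_smul F v, h2]
    · have hc : Commute A (negIsom B) := Subgroup.mem_center_iff.1 (negIsom_mem_center B) A
      have hn : negIsom B * negIsom B = 1 := by ext v; simp [LinearEquiv.mul_apply]
      refine ⟨A * negIsom B, ?_, ?_⟩
      · rw [QuotientGroup.mk_mul, (QuotientGroup.eq_one_iff _).2 (negIsom_mem_center B), mul_one]
      · obtain ⟨c, hc'⟩ : Odd (p ^ k) := hodd.pow
        rw [hc.mul_pow, hg, hc', pow_succ, pow_mul, pow_two, hn, one_pow, one_mul, hn]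

theorem apply_eq_of_pow_eq_one {B : LinearMap.BilinForm F V} (p : ℕ) [Fact p.Prime] [CharP F p]
    {A : isom B} {k : ℕ} (hA : A ^ p ^ k = 1) {v : V} {c : F} (h : A.1 v = c • v) : A.1 v = v := by
  by_cases hv : v = 0
  · simp [hv]
  have h1 : ∀ n : ℕ, (A ^ n).1 v = c ^ n • v := fun n => by
    induction n with
    | zero => simp
    | succ n ih =>
      rw [pow_succ', Subgroup.coe_mul, LinearEquiv.mul_apply, ih, map_smul, h, smul_smul, pow_succ]
  have h2 := h1 (p ^ k)
  rw [hA] at h2
  have h3 : c ^ p ^ k = 1 := by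
    have : (c ^ p ^ k - 1) • v = 0 := by rw [sub_smul, ← h2]; simp
    exact sub_eq_zero.1 ((smul_eq_zero.1 this).resolve_right hv)
  have h4 : (c - 1) ^ p ^ k = 0 := by rw [sub_pow_char_pow, h3]; simp
  rw [h, sub_eq_zero.1 (pow_eq_zero_iff (pow_ne_zero _ (Fact.out : p.Prime).ne_zero) |>.1 h4),
    one_smul]

/-- A `p`-element has a lift fixing every vector whose point is fixed. -/
theorem exists_lift_fix {B : LinearMap.BilinForm F V} [IsSymp B] (p : ℕ) [Fact p.Prime]
    [CharP F p] {g : PIsom B} {k : ℕ} (hg : g ^ p ^ k = 1) :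
    ∃ A : isom B, QuotientGroup.mk A = g ∧ ∀ (v : V) (hv : v ≠ 0),
      g • Projectivization.mk F v hv = Projectivization.mk F v hv → A.1 v = v := by
  obtain ⟨A, rfl, hA⟩ := exists_lift_pow p hg
  refine ⟨A, rfl, fun v hv h => ?_⟩
  obtain ⟨c, hc⟩ := (isom_smul_mk_eq_iff A hv).1 h
  exact apply_eq_of_pow_eq_one p hA hc

/-- A `p`-element fixing a spanning set of points is trivial. -/
theorem eq_one_of_span_eq_top {B : LinearMap.BilinForm F V} [IsSymp B] (p : ℕ) [Fact p.Prime]
    [CharP F p] {g : PIsom B} {k : ℕ} (hg : g ^ p ^ k = 1) {s : Set V}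
    (hs : Submodule.span F s = ⊤) (h : ∀ v ∈ s, ∀ hv : v ≠ 0,
      g • Projectivization.mk F v hv = Projectivization.mk F v hv) : g = 1 := by
  obtain ⟨A, rfl, hA⟩ := exists_lift_fix p hg
  have : A = 1 := by
    apply Subtype.ext
    apply LinearEquiv.toLinearMap_injective
    refine LinearMap.ext_on hs fun v hv => ?_
    by_cases h0 : v = 0
    · simp [h0]
    · exact hA v h0 (h v hv h0)
  rw [this, QuotientGroup.mk_one]

theorem center_le_stab {B : LinearMap.BilinForm F V} [IsSymp B] (W : Submodule F V) :
    Subgroup.center (isom B) ≤ stab B W := by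
  intro g hg
  rcases mem_center_iff_eq.1 hg with rfl | rfl
  · exact one_mem _
  · intro v; simp

/-- The stabiliser of a subspace in the projective group. -/
def pstab (B : LinearMap.BilinForm F V) (W : Submodule F V) : Subgroup (PIsom B) :=
  (stab B W).map (QuotientGroup.mk' _)

theorem mk_mem_pstab {B : LinearMap.BilinForm F V} [IsSymp B] {W : Submodule F V} {g : isom B} :
    (QuotientGroup.mk g : PIsom B) ∈ pstab B W ↔ g ∈ stab B W := by
  change g ∈ ((stab B W).map (QuotientGroup.mk' _)).comap (QuotientGroup.mk' _) ↔ _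
  rw [Subgroup.comap_map_eq_self (by simpa using center_le_stab W)]

theorem card_stab_eq_mul {B : LinearMap.BilinForm F V} [IsSymp B] (W : Submodule F V) :
    Nat.card (stab B W) = Nat.card (pstab B W) * Nat.card (Subgroup.center (isom B)) := by
  have h1 : stab B W = (pstab B W).comap (QuotientGroup.mk' _) := by
    ext g; exact mk_mem_pstab.symm
  rw [h1]
  have := Nat.card_congr (QuotientGroup.preimageMkEquivSubgroupProdSet
    (Subgroup.center (isom B)) (pstab B W : Set (PIsom B)))
  rw [Nat.card_prod, mul_comm] at this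
  exact this

theorem mem_stab_of_maps [FiniteDimensional F V] {B : LinearMap.BilinForm F V}
    {W : Submodule F V} {g : isom B} (h : ∀ v ∈ W, g.1 v ∈ W) : g ∈ stab B W := by
  have h1 : W.map (g.1 : V →ₗ[F] V) = W := by
    apply Submodule.eq_of_le_of_finrank_eq
    · rintro _ ⟨v, hv, rfl⟩; exact h v hv
    · exact LinearEquiv.finrank_map_eq _ _
  refine fun v => ⟨h v, fun hv => ?_⟩
  rw [← h1] at hv
  obtain ⟨w, hw, e⟩ := hv
  rwa [← g.1.injective e]

theorem stabilizer_eq_pstab [FiniteDimensional F V] {B : LinearMap.BilinForm F V} [IsSymp B]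
    (x : ℙ F V) : MulAction.stabilizer (PIsom B) x = pstab B x.submodule := by
  induction x using Projectivization.ind with | _ v hv =>
  ext g
  induction g using QuotientGroup.induction_on with | _ g =>
  rw [MulAction.mem_stabilizer_iff, mk_smul, mk_mem_pstab, isom_smul_mk_eq_iff,
    Projectivization.submodule_mk]
  constructor
  · rintro ⟨c, hc⟩
    apply mem_stab_of_maps
    intro w hw
    obtain ⟨d, rfl⟩ := Submodule.mem_span_singleton.1 hw
    rw [map_smul, hc, smul_smul]
    exact Submodule.smul_mem _ _ (Submodule.mem_span_singleton_self v)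
  · intro h
    obtain ⟨c, hc⟩ := Submodule.mem_span_singleton.1
      ((h v).1 (Submodule.mem_span_singleton_self v))
    exact ⟨c, hc.symm⟩

theorem card_points_le [Finite F] (U : Submodule F V) :
    Nat.card {x : ℙ F V // x.submodule ≤ U} = ∑ i ∈ Finset.range (finrank F U), Nat.card F ^ i := by
  rw [← Projectivization.card_of_finrank F U rfl]
  symm
  refine Nat.card_congr (Equiv.ofBijective
    (fun y => ⟨Projectivization.map U.subtype U.injective_subtype y, ?_⟩) ⟨fun a b e => ?_, ?_⟩)
  · induction y using Projectivization.ind with | _ v hv =>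
    rw [Projectivization.map_mk, Projectivization.submodule_mk,
      Submodule.span_singleton_le_iff_mem]
    exact v.2
  · exact Projectivization.map_injective _ U.injective_subtype (congrArg Subtype.val e)
  · rintro ⟨x, hx⟩
    induction x using Projectivization.ind with | _ v hv =>
    rw [Projectivization.submodule_mk, Submodule.span_singleton_le_iff_mem] at hx
    exact ⟨Projectivization.mk F ⟨v, hx⟩ (fun h => hv (congrArg Subtype.val h)), rfl⟩

theorem smul_submodule_le {B : LinearMap.BilinForm F V} [IsSymp B] {U : Submodule F V}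
    {g : PIsom B} (hg : g ∈ pstab B U) {x : ℙ F V} (hx : x.submodule ≤ U) :
    (g • x).submodule ≤ U := by
  obtain ⟨g, hg, rfl⟩ := hg
  induction x using Projectivization.ind with | _ v hv =>
  rw [Projectivization.submodule_mk, Submodule.span_singleton_le_iff_mem] at hx
  change (g • Projectivization.mk F v hv).submodule ≤ U
  rw [isom_smul_mk, Projectivization.submodule_mk, Submodule.span_singleton_le_iff_mem]
  exact (hg v).1 hx

variable [FiniteDimensional F V] [Finite F]

/-- A `p`-subgroup stabilising a non-zero subspace fixes a point in it. -/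
theorem exists_fixed_point {B : LinearMap.BilinForm F V} [IsSymp B] (p : ℕ) [Fact p.Prime]
    [CharP F p] {Q : Subgroup (PIsom B)} (hQ : IsPGroup p Q) {U : Submodule F V} (hU : U ≠ ⊥)
    (hQU : Q ≤ pstab B U) : ∃ v ∈ U, ∃ hv : v ≠ 0, ∀ g ∈ Q,
      g • Projectivization.mk F v hv = Projectivization.mk F v hv := by
  let S : SubMulAction Q (ℙ F V) :=
    { carrier := {x | x.submodule ≤ U}
      smul_mem' := fun g _ hx => smul_submodule_le (hQU g.2) hx }
  have hcard : ¬ p ∣ Nat.card S := by
    have h1 : Nat.card S = ∑ i ∈ Finset.range (finrank F U), Nat.card F ^ i := card_points_le U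
    obtain ⟨n, hn⟩ : ∃ n, finrank F U = n + 1 :=
      Nat.exists_eq_succ_of_ne_zero (fun h => hU (Submodule.finrank_eq_zero.1 h))
    have := Fintype.ofFinite F
    have hp : p ∣ Nat.card F := by
      obtain ⟨k, -, hk⟩ := FiniteField.card F p
      rw [Nat.card_eq_fintype_card, hk]
      exact dvd_pow_self p k.ne_zero
    rw [h1, hn, Finset.sum_range_succ', pow_zero, Nat.dvd_add_right]
    · exact (Fact.out : p.Prime).not_dvd_one
    · exact Finset.dvd_sum fun i _ => hp.trans (dvd_pow_self _ (Nat.succ_ne_zero i))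
  obtain ⟨⟨x, hx⟩, hfix⟩ := hQ.nonempty_fixed_point_of_prime_not_dvd_card S hcard
  induction x using Projectivization.ind with | _ v hv =>
  refine ⟨v, ?_, hv, fun g hg => congrArg Subtype.val (hfix ⟨g, hg⟩)⟩
  have : (Projectivization.mk F v hv).submodule ≤ U := hx
  rwa [Projectivization.submodule_mk, Submodule.span_singleton_le_iff_mem] at this

/-- A subgroup normalising a non-trivial `p`-subgroup stabilises a non-zero totally isotropic subspace. -/
theorem exists_isotropic_stab {B : LinearMap.BilinForm F V} [h : IsSymp B] (p : ℕ) [Fact p.Prime]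
    [CharP F p] {Q H : Subgroup (PIsom B)} (hQ : IsPGroup p Q) (hQ1 : Q ≠ ⊥)
    (hH : ∀ g ∈ H, ∀ t ∈ Q, g⁻¹ * t * g ∈ Q) :
    ∃ W : Submodule F V, W ≠ ⊥ ∧ W ≤ B.orthogonal W ∧ H ≤ pstab B W := by
  let s : Set V := {v | ∀ hv : v ≠ 0, ∀ g ∈ Q,
    g • Projectivization.mk F v hv = Projectivization.mk F v hv}
  let C := Submodule.span F s
  have hC : ∀ g : PIsom B, (∀ t ∈ Q, g⁻¹ * t * g ∈ Q) → g ∈ pstab B C := by
    intro g hg
    induction g using QuotientGroup.induction_on with | _ g =>
    rw [mk_mem_pstab]
    apply mem_stab_of_maps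
    have : C.map (g.1 : V →ₗ[F] V) ≤ C := by
      rw [Submodule.map_span_le]
      intro v hv
      apply Submodule.subset_span
      intro hgv t ht
      have hv0 : v ≠ 0 := fun e => hgv (by simp [e])
      have := hv hv0 _ (hg t ht)
      rw [mul_smul, mul_smul, inv_smul_eq_iff] at this
      exact this
    exact fun v hv => this ⟨v, hv, rfl⟩
  have hCtop : C ≠ ⊤ := by
    intro htop
    apply hQ1
    rw [eq_bot_iff]
    intro g hg
    obtain ⟨k, hk⟩ := hQ ⟨g, hg⟩
    exact eq_one_of_span_eq_top p (congrArg Subtype.val hk) htop fun v hv h0 => hv h0 g hg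
  have hperp : B.orthogonal C ≠ ⊥ := by
    intro hb
    apply hCtop
    rw [← LinearMap.BilinForm.orthogonal_orthogonal h.nondeg h.alt.isRefl C, hb,
      LinearMap.BilinForm.orthogonal_bot]
  have horth : ∀ g ∈ pstab B C, g ∈ pstab B (B.orthogonal C) := by
    rintro _ ⟨g, hg, rfl⟩
    exact ⟨g, mem_stab_orthogonal hg, rfl⟩
  obtain ⟨v, hv, hv0, hfix⟩ := exists_fixed_point p hQ hperp
    (fun g hg => horth g (hC g fun t ht => mul_mem (mul_mem (inv_mem hg) ht) hg))
  refine ⟨C ⊓ B.orthogonal C, ?_, ?_, ?_⟩
  · intro hb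
    have : v ∈ C ⊓ B.orthogonal C := ⟨Submodule.subset_span fun _ => hfix, hv⟩
    rw [hb] at this
    exact hv0 this
  · intro a ha b hb
    exact ha.2 b hb.1
  · intro g hg
    have h1 := hC g (hH g hg)
    have h2 := horth g h1
    induction g using QuotientGroup.induction_on with | _ g =>
    rw [mk_mem_pstab] at h1 h2 ⊢
    exact fun w => and_congr (h1 w) (h2 w)

omit [Finite F] in
instance pisomPretransitive (B : LinearMap.BilinForm F V) [h : IsSymp B] :
    MulAction.IsPretransitive (PIsom B) (ℙ F V) where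
  exists_smul_eq p q := by
    induction p using Projectivization.ind with | _ x hx =>
    induction q using Projectivization.ind with | _ y hy =>
    obtain ⟨g, hg, e⟩ := exists_isom_of_ne_zero h.nondeg h.alt hx hy
    exact ⟨QuotientGroup.mk ⟨g, hg⟩, by simp only [mk_smul, isom_smul_mk, e]⟩

end CL.Symp
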